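import Groth.Agent.CyclicCoverLib.Basic
import Mathlib.RingTheory.Smooth.IntegralClosure
import Mathlib.RingTheory.Localization.FractionRing
import Mathlib.RingTheory.Flat.Basic
import Mathlib.RingTheory.Polynomial.ScaleRoots
import Mathlib.RingTheory.IntegralClosure.IntegrallyClosed

/-!
# The cyclic algebra with unit parameter is the only finite extension agreeing with it generically
-/

set_option autoImplicit false
set_option linter.style.haveILetI false
universe u
open Polynomial TensorProduct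

namespace Groth.Agent.CycEtaleLib

variable {B : Type u} [CommRing B]

/-- An element of a smooth flat algebra over an integrally closed domain which is, after inverting a
nonzero scalar, a root of a monic polynomial is divisible by that scalar. -/
theorem exists_eq_mul_of_isIntegral_div [IsDomain B] [IsIntegrallyClosed B] {A : Type u} [CommRing A]
    [Algebra B A] [Algebra.Smooth B A] [Module.Flat B A] (s : B) (hs : s ≠ 0) (a : A) (p : A[X])
    (hp : p.Monic) (ha : (p.scaleRoots (algebraMap B A s)).eval a = 0) :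
    ∃ a', a = algebraMap B A s * a' := by
  let K := FractionRing B
  let ι : A →+* A ⊗[B] K := Algebra.TensorProduct.includeLeftRingHom
  have hι : Function.Injective ι :=
    Algebra.TensorProduct.includeLeft_injective (R := B) (S := B) (A := A) (B := K) (IsFractionRing.injective B K)
  have hι' : ∀ b : B, ι (algebraMap B A b) = (1 : A) ⊗ₜ[B] algebraMap B K b := fun b => by
    show (algebraMap B A b) ⊗ₜ[B] (1 : K) = _
    rw [Algebra.algebraMap_eq_smul_one, Algebra.algebraMap_eq_smul_one, smul_tmul]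
  have hsK : algebraMap B K s ≠ 0 := fun h => hs ((map_eq_zero_iff _ (IsFractionRing.injective B K)).1 h)
  have hsu : IsUnit (ι (algebraMap B A s)) := by
    rw [hι']
    exact (IsUnit.mk0 _ hsK).map (Algebra.TensorProduct.includeRight (R := B) (A := A))
  let x : A ⊗[B] K := ↑hsu.unit⁻¹ * ι a
  have hx : ι (algebraMap B A s) * x = ι a := by
    show ι (algebraMap B A s) * (↑hsu.unit⁻¹ * ι a) = ι a
    rw [← mul_assoc, IsUnit.mul_val_inv, one_mul]
  have h1 : eval₂ ι (ι a) (p.scaleRoots (algebraMap B A s)) = 0 := by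
    rw [eval₂_at_apply, ha, map_zero]
  rw [← hx, scaleRoots_eval₂_mul] at h1
  have hint : IsIntegral A x := ⟨p, hp, (IsUnit.mul_right_eq_zero (hsu.pow _)).1 h1⟩
  obtain ⟨z, hz⟩ := (TensorProduct.toIntegralClosure_bijective_of_smooth (R := B) (S := A) (B := K)).2 ⟨x, hint⟩
  have hrange : ∀ z : A ⊗[B] integralClosure B K, ∃ a', ((TensorProduct.toIntegralClosure B A K z :
      integralClosure A (A ⊗[B] K)) : A ⊗[B] K) = ι a' := by
    intro z
    induction z with
    | zero => exact ⟨0, by simp⟩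
    | add z w hz hw =>
      obtain ⟨c, hc⟩ := hz
      obtain ⟨d, hd⟩ := hw
      exact ⟨c + d, by rw [map_add, map_add, Subalgebra.coe_add, hc, hd]⟩
    | tmul c y =>
      obtain ⟨b, hb⟩ := IsIntegrallyClosed.isIntegral_iff.1 y.2
      refine ⟨algebraMap B A b * c, ?_⟩
      show c ⊗ₜ[B] (y : K) = (algebraMap B A b * c) ⊗ₜ[B] (1 : K)
      rw [← hb, Algebra.algebraMap_eq_smul_one, ← Algebra.smul_def, smul_tmul]
  obtain ⟨a', ha'⟩ := hrange z
  rw [hz] at ha'
  refine ⟨a', hι ?_⟩
  rw [map_mul, ← ha', ← hx]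

theorem injective_adjoinRoot_of [IsDomain B] (u : B) {N : ℕ} (hN : 0 < N) :
    Function.Injective (AdjoinRoot.of (X ^ N - C u : B[X])) :=
  AdjoinRoot.of.injective_of_degree_ne_zero (by
    rw [degree_X_pow_sub_C hN]
    exact_mod_cast hN.ne')

theorem eq_zero_of_of_mul [IsDomain B] (u : B) {N : ℕ} (hN : 0 < N) {g : B} (hg : g ≠ 0)
    {a : AdjoinRoot (X ^ N - C u : B[X])} (h : AdjoinRoot.of (X ^ N - C u) g * a = 0) : a = 0 := by
  haveI : Module.Free B (AdjoinRoot (X ^ N - C u : B[X])) := (monic_X_pow_sub_C u hN.ne').free_adjoinRoot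
  have h' : g • a = 0 := by rw [Algebra.smul_def, AdjoinRoot.algebraMap_eq]; exact h
  exact (smul_eq_zero.1 h').resolve_left hg

/-- A ring finite over a normal domain `B`, receiving `B[T]/(T^N - u)` (`N` and `u` units), torsion free
for `g` and agreeing with it after inverting `g`, is equal to it. -/
theorem surjective_of_isIntegral [IsDomain B] [IsIntegrallyClosed B] (N : ℕ) (hN : 0 < N)
    (hNu : IsUnit (N : B)) (u : B) (hu : IsUnit u) {S : Type u} [CommRing S]
    (φ : AdjoinRoot (X ^ N - C u : B[X]) →+* S) (hinj : Function.Injective φ)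
    (hint : (φ.comp (AdjoinRoot.of (X ^ N - C u))).IsIntegral) (g : B) (hg : g ≠ 0)
    (hreg : ∀ c : S, φ (AdjoinRoot.of (X ^ N - C u) g) * c = 0 → c = 0)
    (hloc : ∀ c : S, ∃ (n : ℕ) (a : AdjoinRoot (X ^ N - C u : B[X])),
      φ a = φ (AdjoinRoot.of (X ^ N - C u) g) ^ n * c) :
    Function.Surjective φ := by
  haveI := CyclicCoverLib.etale_adjoinRoot B u hu N hN hNu
  haveI : Module.Free B (AdjoinRoot (X ^ N - C u : B[X])) := (monic_X_pow_sub_C u hN.ne').free_adjoinRoot
  intro c
  obtain ⟨n, a, ha⟩ := hloc c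
  obtain ⟨p, hp, hpc⟩ := RingHom.IsIntegral.tower_top _ φ hint c
  rw [← map_pow] at ha
  have h0 := scaleRoots_eval₂_eq_zero φ (s := AdjoinRoot.of (X ^ N - C u) g ^ n) hpc
  rw [← ha, eval₂_at_apply, map_eq_zero_iff φ hinj] at h0
  have hal : algebraMap B (AdjoinRoot (X ^ N - C u : B[X])) (g ^ n) = AdjoinRoot.of (X ^ N - C u) g ^ n := by
    rw [AdjoinRoot.algebraMap_eq, map_pow]
  obtain ⟨a', ha'⟩ := exists_eq_mul_of_isIntegral_div (g ^ n) (pow_ne_zero _ hg) a p hp (by rw [hal]; exact h0)
  rw [hal] at ha'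
  refine ⟨a', ?_⟩
  have key : ∀ m : ℕ, ∀ c : S, φ (AdjoinRoot.of (X ^ N - C u) g) ^ m * c = 0 → c = 0 := by
    intro m
    induction m with
    | zero => intro c hc; simpa using hc
    | succ m ih => intro c hc; rw [pow_succ, mul_assoc] at hc; exact hreg _ (ih _ hc)
  refine sub_eq_zero.1 (key n _ ?_)
  rw [mul_sub, ← map_pow, ← map_mul, ← ha', ha, sub_self]

end Groth.Agent.CycEtaleLib
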