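import Groth.Agent.CyclicRootLib.Regular
import Groth.Prelude.Def_LogNCD
import Mathlib.AlgebraicGeometry.AffineSpace
import Mathlib.AlgebraicGeometry.Morphisms.Etale
import Mathlib.RingTheory.RegularLocalRing.Polynomial
import Mathlib.LinearAlgebra.TensorProduct.RightExactness

/-!
# An étale coordinate cuts out a regular divisor
-/

set_option autoImplicit false
set_option backward.isDefEq.respectTransparency false
set_option backward.isDefEq.respectTransparency.types false
set_option linter.style.haveILetI false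
set_option maxHeartbeats 1000000
universe u

open CategoryTheory AlgebraicGeometry Opposite TopologicalSpace

noncomputable section

namespace Groth.Agent.CycEtaleLib

theorem isRegularRing_quotient_X {k : Type u} [Field k] {ι : Type u} [Finite ι] (i : ι) :
    IsRegularRing (MvPolynomial ι k ⧸ Ideal.span {(MvPolynomial.X i : MvPolynomial ι k)}) := by
  classical
  let e : MvPolynomial ι k ≃ₐ[k] Polynomial (MvPolynomial {j // j ≠ i} k) :=
    (MvPolynomial.renameEquiv k (Equiv.optionSubtypeNe i)).symm.trans (MvPolynomial.optionEquivLeft k {j // j ≠ i})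
  have he : e (MvPolynomial.X i) = Polynomial.X := by
    simp [e, MvPolynomial.optionEquivLeft_X_none]
  let e' : (MvPolynomial ι k ⧸ Ideal.span {(MvPolynomial.X i : MvPolynomial ι k)}) ≃+*
      (Polynomial (MvPolynomial {j // j ≠ i} k) ⧸
        Ideal.span {(Polynomial.X - Polynomial.C 0 : Polynomial (MvPolynomial {j // j ≠ i} k))}) :=
    Ideal.quotientEquiv _ _ e.toRingEquiv (by
      rw [Ideal.map_span, Set.image_singleton, map_zero, sub_zero]
      exact congrArg (fun z => Ideal.span {z}) he.symm)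
  exact IsRegularRing.of_ringEquiv (e'.trans (Polynomial.quotientSpanXSubCAlgEquiv 0).toRingEquiv).symm

theorem coord_quotient {k : Type u} [Field k] {ι : Type u} [Finite ι] {B : Type u} [CommRing B] [Nontrivial B]
    (ψ : MvPolynomial ι k →+* B) (hψ : ψ.Etale) (i : ι) :
    ψ (MvPolynomial.X i) ≠ 0 ∧ IsRegularRing (B ⧸ Ideal.span {ψ (MvPolynomial.X i)}) := by
  letI := ψ.toAlgebra
  haveI : Algebra.Etale (MvPolynomial ι k) B := RingHom.etale_algebraMap.1 hψ
  let R := MvPolynomial ι k
  let I : Ideal R := Ideal.span {(MvPolynomial.X i : MvPolynomial ι k)}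
  constructor
  · intro h
    have h1 : (MvPolynomial.X i : R) • (1 : B) = 0 := by rw [Algebra.smul_def, mul_one]; exact h
    exact MvPolynomial.X_ne_zero (R := k) i ((smul_eq_zero.1 h1).resolve_right one_ne_zero)
  · haveI := isRegularRing_quotient_X (k := k) i
    haveI := CyclicRootLib.isRegularRing_of_etale (R ⧸ I) (TensorProduct R (R ⧸ I) B)
    have hI : I.map ψ = Ideal.span {ψ (MvPolynomial.X i)} := by rw [Ideal.map_span, Set.image_singleton]
    let e1 : TensorProduct R (R ⧸ I) B ≃+* TensorProduct R B (R ⧸ I) :=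
      (Algebra.TensorProduct.comm R (R ⧸ I) B).toRingEquiv
    let e2 : (B ⧸ I.map (algebraMap R B)) ≃+* TensorProduct R B (R ⧸ I) :=
      (Algebra.TensorProduct.quotIdealMapEquivTensorQuot B I).toRingEquiv
    refine IsRegularRing.of_ringEquiv (R := TensorProduct R (R ⧸ I) B) ?_
    exact (e1.trans e2.symm).trans (Ideal.quotEquivOfEq hI)

variable {X : Scheme.{u}}

/-- A coordinate of an étale chart cuts out a regular divisor on every affine open of the chart. -/
theorem regular_coord {k : Type u} [Field k] (f : X ⟶ Spec (CommRingCat.of k)) (W : X.Opens) {n : ℕ}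
    (v : ULift.{u} (Fin n) → Γ(W, ⊤)) (hv : Etale (AffineSpace.homOfVector (W.ι ≫ f) v))
    (U : X.affineOpens) (h : U.1 ≤ W) [Nontrivial Γ(X, U.1)] (i : ULift.{u} (Fin n)) :
    LogNCD.sectOn W h (v i) ≠ 0 ∧ IsRegularRing (Γ(X, U.1) ⧸ Ideal.span {LogNCD.sectOn W h (v i)}) := by
  haveI := hv
  let e := AffineSpace.SpecIso (ULift.{u} (Fin n)) (CommRingCat.of k)
  let q : (U.1 : Scheme.{u}) ⟶ Spec (CommRingCat.of (MvPolynomial (ULift.{u} (Fin n)) k)) :=
    X.homOfLE h ≫ AffineSpace.homOfVector (W.ι ≫ f) v ≫ e.hom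
  haveI : IsAffine (U.1 : Scheme.{u}) := U.2
  have hq : q.appTop.hom.Etale := (HasRingHomProperty.iff_of_isAffine (P := @Etale)).1 inferInstance
  let ψ : MvPolynomial (ULift.{u} (Fin n)) k →+* Γ(X, U.1) :=
    ((Scheme.ΓSpecIso _).inv ≫ q.appTop ≫ U.1.topIso.hom).hom
  have hψ : ψ.Etale := by
    have h1 : ((Scheme.ΓSpecIso _).inv ≫ q.appTop).hom.Etale :=
      RingHom.Etale.respectsIso.2 _ (Scheme.ΓSpecIso _).symm.commRingCatIsoToRingEquiv hq
    exact RingHom.Etale.respectsIso.1 _ U.1.topIso.commRingCatIsoToRingEquiv h1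
  have hval : ψ (MvPolynomial.X i) = LogNCD.sectOn W h (v i) := by
    have hc : e.hom.appTop ((Scheme.ΓSpecIso _).inv (MvPolynomial.X i)) = AffineSpace.coord _ i := by
      rw [← AffineSpace.SpecIso_inv_appTop_coord, ← CommRingCat.comp_apply, ← Scheme.Hom.comp_appTop]
      simp [e]
    show U.1.topIso.hom (q.appTop ((Scheme.ΓSpecIso _).inv (MvPolynomial.X i))) = _
    simp only [q, Scheme.Hom.comp_appTop, CommRingCat.comp_apply]
    rw [hc, AffineSpace.homOfVector_appTop_coord, LogNCD.sectOn]
    simp only [Scheme.Opens.topIso_hom, Scheme.homOfLE_appTop]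
    simp only [← CommRingCat.comp_apply, ← Functor.map_comp]
    rfl
  rw [← hval]
  exact coord_quotient ψ hψ i

end Groth.Agent.CycEtaleLib
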