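import Groth.Agent.CycEtaleLib.Main
import Groth.Prelude.Def_LogNCD

/-!
# Étaleness of the cyclic cover away from the branch divisor
-/

set_option autoImplicit false
set_option backward.isDefEq.respectTransparency false
set_option backward.isDefEq.respectTransparency.types false
set_option linter.style.haveILetI false
set_option maxHeartbeats 1000000
universe u

open CategoryTheory AlgebraicGeometry Opposite TopologicalSpace Polynomial CycCov
open Groth.Agent.ParaFLib Groth.Agent.PullbackMod Groth.Agent.AmpleLib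

noncomputable section

namespace Groth.Agent.CycEtaleLib

variable {X Y : Scheme.{u}}

/-- A morphism étale on the sections over an affine open with affine preimage is étale over it. -/
theorem etale_morphismRestrict (π : Y ⟶ X) {U : X.Opens} (hU : IsAffineOpen U)
    (hV : IsAffineOpen (π ⁻¹ᵁ U)) (h : (π.app U).hom.Etale) : Etale (π ∣_ U) := by
  haveI h1 : Etale (Spec.map (π.app U)) := (HasRingHomProperty.Spec_iff (P := @Etale)).2 h
  have he : hV.fromSpec = hV.isoSpec.inv ≫ (π ⁻¹ᵁ U).ι := rfl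
  have hsq : hV.fromSpec ≫ π = Spec.map (π.app U) ≫ hU.fromSpec := by
    rw [Scheme.Hom.app_eq_appLE]
    exact (IsAffineOpen.SpecMap_appLE_fromSpec π hU hV le_rfl).symm
  haveI h2 : Etale (hV.fromSpec ≫ π) := by
    rw [hsq]; infer_instance
  have h3 : hV.isoSpec.hom ≫ hV.fromSpec ≫ π = (π ∣_ U) ≫ U.ι := by
    rw [he, morphismRestrict_ι, Category.assoc, Iso.hom_inv_id_assoc]
  haveI h4 : Etale ((π ∣_ U) ≫ U.ι) := by
    rw [← h3]; infer_instance
  exact MorphismProperty.of_postcomp (W := @Etale) (W' := @Etale) _ U.ι inferInstance h4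

theorem etale_chart_ring {B S : Type u} [CommRing B] [CommRing S] (N : ℕ) (hN : 0 < N) (hNu : IsUnit (N : B))
    (f : B) (hf : IsUnit f) (φ : AdjoinRoot (Polynomial.X ^ N - Polynomial.C f) →+* S) (hφ : Function.Bijective φ)
    (ψ : B →+* S) (hψ : ∀ b, φ (AdjoinRoot.of _ b) = ψ b) : ψ.Etale := by
  letI := ψ.toAlgebra
  haveI := CyclicCoverLib.etale_adjoinRoot B f hf N hN hNu
  let φ' : AdjoinRoot (Polynomial.X ^ N - Polynomial.C f) →ₐ[B] S := { φ with commutes' := hψ }
  haveI : Algebra.Etale B S := Algebra.Etale.of_equiv (AlgEquiv.ofBijective φ' hφ)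
  exact RingHom.etale_algebraMap.2 inferInstance

theorem etale_restrict {k : Type u} [Field k] (f : X ⟶ Spec (CommRingCat.of k)) [Smooth f] [IsIntegral X]
    (L : X.Modules) (hL : PicF.IsInvertible L) (N : ℕ) (hN : 0 < N) (hNk : (N : k) ≠ 0)
    {r : ℕ} (D : Fin r → X.IdealSheafData) (α : Fin r → ℕ)
    (s : Coh.structureModule X ⟶ CohB1.tensorPow L N)
    (hs : CycCov.IsZeroDiv (CohB1.tensorPow L N) s (CycCov.divIdeal D α))
    (π : Y ⟶ X) (R : CycCov.Root L N s π) (hR : CycCov.IsCover R)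
    (W : X.Opens) (hW : ∀ j : Fin r, 0 < α j → Disjoint (W : Set X) ((D j).support : Set X)) :
    Etale (π ∣_ W) := by
  obtain ⟨hfin, hY, W₀, hW₀, hW₀', hchart⟩ := hR
  haveI := hfin
  haveI : ∀ y : Y, _root_.IsReduced (Y.presheaf.stalk y) := fun y => by
    haveI := (hY y).1
    infer_instance
  haveI : IsReduced Y := AlgebraicGeometry.isReduced_of_isReduced_stalk Y
  refine IsZariskiLocalAtTarget.of_forall_exists_morphismRestrict fun w => ?_
  obtain ⟨O, e, hxO, he⟩ := ParaFLib.exists_gen_nhd hL w.1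
  obtain ⟨U, hU, hxU, hle⟩ := exists_isAffineOpen_mem_and_subset (show w.1 ∈ O ⊓ W from ⟨hxO, w.2⟩)
  have hle' : U ≤ W := fun z hz => (hle hz).2
  have hgen := he.res (show U ≤ O from fun z hz => (hle hz).1)
  have hNu := isUnit_natCast f hNk U
  obtain ⟨c, hcu, hc⟩ := exists_unit_coeff s ⟨U, hU⟩ _ hgen (CycCov.divIdeal D α)
    (divIdeal_eq_top D α ⟨U, hU⟩ fun j hj => (hW j hj).mono_left hle') hs
  have hb := bijective_chart (isNormalScheme_base f) R hN W₀ hW₀ hW₀' hchart ⟨U, hU⟩ ⟨w.1, hxU⟩ hNu _ hgen c hcu hc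
  haveI hEt : Etale (π ∣_ U) := etale_morphismRestrict π hU (hU.preimage π)
    (etale_chart_ring N hN hNu c hcu _ hb _ fun b => AdjoinRoot.lift_of _)
  refine ⟨W.ι ⁻¹ᵁ U, hxU, ?_⟩
  refine ((MorphismProperty.arrow_mk_iso_iff (@Etale)) (morphismRestrictRestrict π W (W.ι ⁻¹ᵁ U))).2 ?_
  have hUeq : W.ι ''ᵁ (W.ι ⁻¹ᵁ U) = U := by
    rw [Scheme.Hom.image_preimage_eq_opensRange_inf, Scheme.Opens.opensRange_ι, inf_eq_right.2 hle']
  rw [hUeq]
  exact hEt

end Groth.Agent.CycEtaleLib
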