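import Groth.Agent.CycEtaleLib.Algebra
import Groth.Agent.CycEtaleLib.Model

/-!
# Local structure of a normal finite extension agreeing generically with an `N`-th root algebra
-/

set_option autoImplicit false
set_option linter.style.haveILetI false
universe u
open Polynomial

noncomputable section

namespace Groth.Agent.CycEtaleLib

/-- A ring whose localizations at maximal ideals are normal domains is integrally closed in its
localization at a non-zero-divisor. -/
theorem exists_eq_of_isIntegral_away' {R : Type u} [CommRing R]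
    (hR : ∀ (P : Ideal R) [P.IsMaximal], IsDomain (Localization.AtPrime P) ∧ IsIntegrallyClosed (Localization.AtPrime P))
    (f : R) (hf : f ∈ nonZeroDivisors R) (S : Type u) [CommRing S] [Algebra R S] [IsLocalization.Away f S]
    (z : S) (hz : IsIntegral R z) : ∃ y : R, algebraMap R S y = z := by
  obtain ⟨k, a, ha⟩ := IsLocalization.Away.surj f z
  suffices hmem : a ∈ Ideal.span {f ^ k} by
    obtain ⟨y, hy⟩ := Ideal.mem_span_singleton'.1 hmem
    refine ⟨y, (IsLocalization.Away.algebraMap_pow_isUnit (S := S) f k).mul_left_injective ?_⟩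
    show algebraMap R S y * _ = z * _
    rw [ha, ← hy, map_mul, map_pow]
  refine Submodule.mem_of_localization_maximal (fun P _ => Localization.AtPrime P)
    (fun P _ => Algebra.linearMap R (Localization.AtPrime P)) _ _ fun P hP => ?_
  let L := Localization.AtPrime P
  haveI : IsDomain L := (hR P).1
  haveI : IsIntegrallyClosed L := (hR P).2
  let F := FractionRing L
  have hfu : IsUnit (algebraMap R F f) := by
    rw [IsScalarTower.algebraMap_apply R L F, isUnit_iff_ne_zero, ne_eq,
      FaithfulSMul.algebraMap_eq_zero_iff]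
    exact CyclicRootLib.ne_zero_algebraMap_of_mem_nonZeroDivisors P hf
  let φ : S →ₐ[R] F := IsLocalization.Away.liftAlgHom f (f := Algebra.ofId R F) hfu
  have hzF : IsIntegral L (φ z) := (hz.map φ).tower_top
  obtain ⟨b, hb⟩ := IsIntegrallyClosed.isIntegral_iff.1 hzF
  have e : algebraMap R L a = b * algebraMap R L f ^ k := by
    apply FaithfulSMul.algebraMap_injective L F
    rw [map_mul, map_pow, hb, ← IsScalarTower.algebraMap_apply, ← IsScalarTower.algebraMap_apply,
      ← φ.commutes, ← φ.commutes f, ← map_pow φ, ← map_mul φ, ha]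
  refine Submodule.mem_localized₀ _ _ _ _ |>.2 ?_
  obtain ⟨⟨r, c⟩, hc⟩ := IsLocalization.surj P.primeCompl b
  refine ⟨r * f ^ k, Ideal.mul_mem_left _ _ (Ideal.mem_span_singleton_self _), c, ?_⟩
  rw [IsLocalizedModule.mk'_eq_iff]
  show algebraMap R L (r * f ^ k) = (c : R) • algebraMap R L a
  rw [e, map_mul, map_pow, ← hc, Algebra.smul_def]
  ring

/-- The local structure theorem: a normal ring `S`, integral over a regular domain `B`, receiving
`B[T]/(T^N - u g^α)` and agreeing with it after inverting `g`, is regular, and the image of `g` is a unit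
times the `N / gcd(N, α)`-th power of an element cutting out a reduced subscheme. -/
theorem local_structure {B : Type u} [CommRing B] [IsDomain B] [IsRegularRing B] (g : B) (hg : g ≠ 0)
    [IsRegularRing (B ⧸ Ideal.span {g})] (N : ℕ) (hN : 0 < N) (hNu : IsUnit (N : B)) (u : Bˣ) (α : ℕ)
    {S : Type u} [CommRing S] [Algebra B S] [Algebra.IsIntegral B S]
    (hS : ∀ (P : Ideal S) [P.IsMaximal], IsDomain (Localization.AtPrime P) ∧ IsIntegrallyClosed (Localization.AtPrime P))
    (t : S) (ht : t ^ N = algebraMap B S ((u : B) * g ^ α))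
    (hreg : ∀ c : S, algebraMap B S g * c = 0 → c = 0)
    (hinj : ∀ p : B[X], aeval t p = 0 → (X ^ N - C ((u : B) * g ^ α)) ∣ p)
    (hloc : ∀ c : S, ∃ (n : ℕ) (p : B[X]), aeval t p = algebraMap B S g ^ n * c) :
    IsRegularRing S ∧ ∃ (x e z : S) (d : ℕ), IsUnit e ∧ algebraMap B S g = e * x ^ (N / Nat.gcd N α) ∧
      (Ideal.span {x}).IsRadical ∧ IsUnit z ∧ IsUnit (d : B) ∧ z ^ d = algebraMap B S (u : B) ∧
      Algebra.adjoin B ({x, z} : Set S) = ⊤ ∧ Module.Flat B S := by
  let P : B[X] := X ^ N - C ((u : B) * g ^ α)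
  let A := AdjoinRoot P
  let φ : A →ₐ[B] S := AdjoinRoot.liftAlgHom P (Algebra.ofId B S) t (by
    show eval₂ (algebraMap B S) t P = 0
    rw [eval₂_sub, eval₂_X_pow, eval₂_C, ht, sub_self])
  have hφ : ∀ p, φ (AdjoinRoot.mk P p) = aeval t p := fun p => by
    rw [← AdjoinRoot.aeval_eq, ← aeval_algHom_apply]
    exact congrArg (fun z => aeval z p) (AdjoinRoot.liftAlgHom_root _ _ _ _)
  let gA := algebraMap B A g
  let gS := algebraMap B S g
  let K := Localization.Away gA
  let Sg := Localization.Away gS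
  have hgA : φ gA = gS := φ.commutes g
  have hgSu : IsUnit (((IsScalarTower.toAlgHom B S Sg).comp φ) gA) := by
    show IsUnit (algebraMap S Sg (φ gA))
    rw [hgA]
    exact IsLocalization.Away.algebraMap_isUnit gS
  let η : K →ₐ[B] Sg := IsLocalization.Away.liftAlgHom gA hgSu
  have hη : ∀ a, η (algebraMap A K a) = algebraMap S Sg (φ a) := fun a =>
    IsLocalization.Away.lift_eq gA hgSu a
  have hgS : gS ∈ nonZeroDivisors S := mem_nonZeroDivisors_iff_right.2 fun c hc => hreg c (by rwa [mul_comm] at hc)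
  have hηinj : Function.Injective η := by
    refine (injective_iff_map_eq_zero η).2 fun z hz => ?_
    obtain ⟨l, a, ha⟩ := IsLocalization.Away.surj gA z
    have h0 : algebraMap S Sg (φ a) = 0 := by rw [← hη, ← ha, map_mul, hz, zero_mul]
    have h1 : φ a = 0 := IsLocalization.injective Sg (Submonoid.powers_le.2 hgS) (h0.trans (map_zero _).symm)
    obtain ⟨p, rfl⟩ := AdjoinRoot.mk_surjective a
    rw [hφ] at h1
    have h2 : AdjoinRoot.mk P p = 0 := AdjoinRoot.mk_eq_zero.2 (hinj p h1)
    rw [h2, map_zero] at ha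
    exact (IsLocalization.Away.algebraMap_pow_isUnit _ l).mul_left_eq_zero.1 ha
  have hηsurj : Function.Surjective η := by
    intro w
    obtain ⟨l, c, hc⟩ := IsLocalization.Away.surj gS w
    obtain ⟨n, p, hp⟩ := hloc c
    obtain ⟨v, hv⟩ := IsLocalization.Away.algebraMap_pow_isUnit (S := K) gA (l + n)
    refine ⟨algebraMap A K (AdjoinRoot.mk P p) * ↑v⁻¹,
      (IsLocalization.Away.algebraMap_pow_isUnit (S := Sg) gS (l + n)).mul_left_injective ?_⟩
    have hv' : η (v : K) = algebraMap S Sg gS ^ (l + n) := by rw [hv, map_pow, hη, hgA]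
    show η _ * algebraMap S Sg gS ^ (l + n) = w * algebraMap S Sg gS ^ (l + n)
    rw [← hv', ← map_mul, mul_assoc, Units.inv_mul, mul_one, hη, hφ, hp, map_mul, map_pow, hv', pow_add,
      ← mul_assoc w, hc, mul_comm]
  let E : K ≃ₐ[B] Sg := AlgEquiv.ofBijective η ⟨hηinj, hηsurj⟩
  let ι : S →ₐ[B] K := (E.symm : Sg →ₐ[B] K).comp (IsScalarTower.toAlgHom B S Sg)
  have hι : Function.Injective ι :=
    E.symm.injective.comp (IsLocalization.injective Sg (Submonoid.powers_le.2 hgS))
  have hE : ∀ c : S, η (ι c) = algebraMap S Sg c := fun c => E.apply_symm_apply _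
  -- the hypotheses of the model
  have hTN : (algebraMap A K (AdjoinRoot.root P)) ^ N = algebraMap B K ((u : B) * g ^ α) := by
    rw [← map_pow, IsScalarTower.algebraMap_apply B A K]
    congr 1
    have h := AdjoinRoot.eval₂_root P
    rw [eval₂_sub, eval₂_X_pow, eval₂_C, sub_eq_zero] at h
    exact h
  have hFu : IsUnit (algebraMap B K g) := by
    rw [IsScalarTower.algebraMap_apply B A K]
    exact IsLocalization.Away.algebraMap_isUnit gA
  have hTu : IsUnit (algebraMap A K (AdjoinRoot.root P)) := (isUnit_pow_iff hN.ne').1 (by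
    rw [hTN, map_mul, map_pow]
    exact (u.isUnit.map _).mul (hFu.pow _))
  have hlift : ∀ (C' : Type u) [CommRing C'] [Algebra B C'] (c : C'),
      c ^ N = algebraMap B C' ((u : B) * g ^ α) → IsUnit (algebraMap B C' g) →
        ∃ ψ : K →ₐ[B] C', ψ (algebraMap A K (AdjoinRoot.root P)) = c := by
    intro C' _ _ c hc hu
    let ψ₀ : A →ₐ[B] C' := AdjoinRoot.liftAlgHom P (Algebra.ofId B C') c (by
      show eval₂ (algebraMap B C') c P = 0
      rw [eval₂_sub, eval₂_X_pow, eval₂_C, hc, sub_self])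
    have hu' : IsUnit (ψ₀ gA) := by rw [AlgHom.commutes]; exact hu
    exact ⟨IsLocalization.Away.liftAlgHom gA hu',
      (IsLocalization.Away.lift_eq gA hu' _).trans (AdjoinRoot.liftAlgHom_root _ _ _ _)⟩
  have hgen : ∀ z : K, ∃ k : ℕ, z * algebraMap B K g ^ k ∈
      Algebra.adjoin B {algebraMap A K (AdjoinRoot.root P)} := by
    intro z
    obtain ⟨k, a, ha⟩ := IsLocalization.Away.surj gA z
    refine ⟨k, ?_⟩
    rw [IsScalarTower.algebraMap_apply B A K, ha]
    obtain ⟨p, rfl⟩ := AdjoinRoot.mk_surjective a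
    rw [← AdjoinRoot.aeval_eq, ← aeval_algebraMap_apply]
    exact aeval_mem_adjoin_singleton B _
  obtain ⟨M, hM⟩ : ∃ M : Subalgebra B K, M = _ := ⟨_, rfl⟩
  obtain ⟨⟨hreg', hfin, -, hclosed⟩, x, e, z, d, he, hxe, hrad, hz, hd, hzd, hadj, hflat⟩ := main' g hg N hN hNu u α K
    (algebraMap A K (AdjoinRoot.root P)) hTu.unit hFu.unit (IsUnit.unit_spec _) (IsUnit.unit_spec _) hTN hlift hgen M hM
  haveI := hfin
  have hmem : ∀ c, ι c ∈ M := fun c => hclosed _ ((Algebra.IsIntegral.isIntegral (R := B) c).map ι)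
  let ιM : S →ₐ[B] M := ι.codRestrict M hmem
  have hbij : Function.Bijective ιM := by
    refine ⟨fun a b h => hι (congrArg Subtype.val h), fun z => ?_⟩
    have hz : IsIntegral B (z : K) := (Algebra.IsIntegral.isIntegral (R := B) z).map M.val
    obtain ⟨c, hc⟩ := exists_eq_of_isIntegral_away' hS gS hgS Sg (η (z : K)) (hz.map η).tower_top
    exact ⟨c, Subtype.ext (hηinj (by rw [← hc]; exact hE c))⟩
  let eM : S ≃ₐ[B] M := AlgEquiv.ofBijective ιM hbij
  haveI := hreg'
  haveI := hflat
  refine ⟨IsRegularRing.of_ringEquiv eM.symm.toRingEquiv, eM.symm x, eM.symm e, eM.symm z, d, he.map _, ?_, ?_,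
    hz.map _, hd, by rw [← map_pow, hzd, AlgEquiv.commutes], ?_, Module.Flat.of_linearEquiv eM.toLinearEquiv⟩
  rotate_left 2
  · have hS : ({eM.symm x, eM.symm z} : Set S) = (eM.symm : M →ₐ[B] S) '' {x, z} := by rw [Set.image_pair]; rfl
    rw [hS, ← AlgHom.map_adjoin, hadj, Algebra.map_top]
    exact (AlgHom.range_eq_top _).2 eM.symm.surjective
  · rw [← map_pow, ← map_mul, ← hxe, AlgEquiv.commutes]
  · intro y hy
    obtain ⟨k, hk⟩ := hy
    obtain ⟨c, hc⟩ := Ideal.mem_span_singleton.1 hk
    obtain ⟨d, hd⟩ := Ideal.mem_span_singleton.1 (hrad (show eM y ∈ (Ideal.span {x}).radical from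
      ⟨k, Ideal.mem_span_singleton.2 ⟨eM c, by rw [← map_pow, hc, map_mul, AlgEquiv.apply_symm_apply]⟩⟩))
    exact Ideal.mem_span_singleton.2 ⟨eM.symm d, by rw [← map_mul, ← hd, AlgEquiv.symm_apply_apply]⟩

end Groth.Agent.CycEtaleLib
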