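import Groth.Agent.CycEtaleLib.Etale
import Groth.Agent.CycEtaleLib.Local
import Groth.Agent.CycEtaleLib.Coord
import Groth.Agent.IdealStalkLib.Comap

/-!
# Local structure of the cyclic cover over the locus where at most one component passes
-/

set_option autoImplicit false
set_option backward.isDefEq.respectTransparency false
set_option backward.isDefEq.respectTransparency.types false
set_option linter.style.haveILetI false
set_option maxHeartbeats 2000000
universe u

open CategoryTheory AlgebraicGeometry Opposite TopologicalSpace Polynomial CycCov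
open Groth.Agent.ParaFLib Groth.Agent.PullbackMod Groth.Agent.AmpleLib

noncomputable section

namespace Groth.Agent.CycEtaleLib

variable {X Y : Scheme.{u}}

theorem isLocalization_stalk_prime {U : X.Opens} (hU : IsAffineOpen U) (P : Ideal Γ(X, U)) [P.IsPrime] :
    ∃ x : U, hU.primeIdealOf x = ⟨P, inferInstance⟩ := by
  refine ⟨⟨hU.fromSpec ⟨P, inferInstance⟩, ?_⟩, hU.fromSpec.isOpenEmbedding.injective (hU.fromSpec_primeIdealOf _)⟩
  have := Set.mem_range_self (f := hU.fromSpec) ⟨P, inferInstance⟩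
  rwa [hU.range_fromSpec] at this

theorem isRegularRing_sections [IsLocallyNoetherian X] {U : X.Opens} (hU : IsAffineOpen U)
    (h : ∀ x ∈ U, IsRegularLocalRing (X.presheaf.stalk x)) : IsRegularRing Γ(X, U) := by
  haveI : IsNoetherianRing Γ(X, U) := IsLocallyNoetherian.component_noetherian ⟨U, hU⟩
  refine isRegularRing_iff.2 fun P hP => ?_
  obtain ⟨x, hx⟩ := isLocalization_stalk_prime hU P
  letI := TopCat.Presheaf.algebra_section_stalk X.presheaf x
  haveI : IsLocalization.AtPrime (X.presheaf.stalk x.1) P := by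
    have h := hU.isLocalization_stalk x
    simpa only [hx] using h
  haveI := h x.1 x.2
  exact IsRegularLocalRing.of_ringEquiv
    (IsLocalization.algEquiv P.primeCompl (X.presheaf.stalk x.1) (Localization.AtPrime P)).toRingEquiv

theorem isRegularLocalRing_stalk {U : X.Opens} (hU : IsAffineOpen U) [IsRegularRing Γ(X, U)] (x : U) :
    IsRegularLocalRing (X.presheaf.stalk x.1) := by
  letI := TopCat.Presheaf.algebra_section_stalk X.presheaf x
  haveI := hU.isLocalization_stalk x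
  haveI : IsRegularLocalRing (Localization.AtPrime (hU.primeIdealOf x).asIdeal) :=
    IsRegularRing.isRegularLocalRing_localization _
  exact IsRegularLocalRing.of_ringEquiv
    (IsLocalization.algEquiv (hU.primeIdealOf x).asIdeal.primeCompl
      (Localization.AtPrime (hU.primeIdealOf x).asIdeal) (X.presheaf.stalk x.1)).toRingEquiv

theorem normal_localization (hY : Pi1.IsNormalScheme Y) {U : Y.Opens} (hU : IsAffineOpen U)
    (P : Ideal Γ(Y, U)) [P.IsMaximal] :
    IsDomain (Localization.AtPrime P) ∧ IsIntegrallyClosed (Localization.AtPrime P) := by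
  obtain ⟨x, hx⟩ := isLocalization_stalk_prime hU P
  letI := TopCat.Presheaf.algebra_section_stalk Y.presheaf x
  haveI : IsLocalization.AtPrime (Y.presheaf.stalk x.1) P := by
    have h := hU.isLocalization_stalk x
    simpa only [hx] using h
  let e := (IsLocalization.algEquiv P.primeCompl (Y.presheaf.stalk x.1) (Localization.AtPrime P)).toRingEquiv
  haveI := (hY x.1).1
  haveI := (hY x.1).2
  exact ⟨e.symm.toMulEquiv.isDomain _, IsIntegrallyClosed.of_equiv e⟩

/-- Ideal sheaves agreeing near each point of an affine open agree on it. -/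
theorem ideal_eq_of_local (I J : X.IdealSheafData) (V : X.affineOpens)
    (h : ∀ y ∈ V.1, ∃ V' : X.affineOpens, y ∈ V'.1 ∧ I.ideal V' = J.ideal V') : I.ideal V = J.ideal V := by
  refine Ideal.eq_of_localization_maximal fun P hP => ?_
  obtain ⟨x, hx⟩ := isLocalization_stalk_prime V.2 P
  letI := TopCat.Presheaf.algebra_section_stalk X.presheaf x
  haveI : IsLocalization.AtPrime (X.presheaf.stalk x.1) P := by
    have h := V.2.isLocalization_stalk x
    simpa only [hx] using h
  obtain ⟨V', hxV', he⟩ := h x.1 x.2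
  have key : (I.ideal V).map (algebraMap Γ(X, V.1) (X.presheaf.stalk x.1)) =
      (J.ideal V).map (algebraMap Γ(X, V.1) (X.presheaf.stalk x.1)) := by
    show (I.ideal V).map (X.presheaf.germ V.1 x.1 x.2).hom = (J.ideal V).map (X.presheaf.germ V.1 x.1 x.2).hom
    rw [← IdealStalkLib.stalkIdeal_eq I V x.1 x.2, ← IdealStalkLib.stalkIdeal_eq J V x.1 x.2,
      IdealStalkLib.stalkIdeal_eq I V' x.1 hxV', IdealStalkLib.stalkIdeal_eq J V' x.1 hxV', he]
  let e := IsLocalization.algEquiv P.primeCompl (X.presheaf.stalk x.1) (Localization.AtPrime P)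
  have he' : ((e : X.presheaf.stalk x.1 →ₐ[Γ(X, V.1)] Localization.AtPrime P) : X.presheaf.stalk x.1 →+* _).comp
      (algebraMap Γ(X, V.1) (X.presheaf.stalk x.1)) = algebraMap Γ(X, V.1) (Localization.AtPrime P) :=
    RingHom.ext fun c => e.commutes c
  rw [← he', ← Ideal.map_map, ← Ideal.map_map, key]

theorem ideal_prod_eq {r : ℕ} (E : Fin r → X.IdealSheafData) (m : Fin r → ℕ) (U : X.affineOpens) :
    ((∏ j, E j ^ m j : X.IdealSheafData)).ideal U = ∏ j, (E j).ideal U ^ m j := by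
  classical
  induction (Finset.univ : Finset (Fin r)) using Finset.induction with
  | empty => rw [Finset.prod_empty, Finset.prod_empty, Ideal.one_eq_top]; rfl
  | insert a s ha ih =>
    rw [Finset.prod_insert ha, Finset.prod_insert ha, Scheme.IdealSheafData.ideal_mul, Pi.mul_apply,
      Scheme.IdealSheafData.ideal_pow, Pi.pow_apply, ih]

theorem ideal_eq_top_of_disjoint (I : X.IdealSheafData) (U : X.affineOpens)
    (h : Disjoint (U.1 : Set X) (I.support : Set X)) : I.ideal U = ⊤ := by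
  have h1 := U.2.fromSpec_image_zeroLocus (I.ideal U : Set Γ(X, U.1))
  rw [← I.coe_support_inter U, Set.inter_comm, h.inter_eq, Set.image_eq_empty,
    PrimeSpectrum.zeroLocus_empty_iff_eq_top] at h1
  exact h1

theorem isRegularRing_quot_one (B : Type u) [CommRing B] [IsNoetherianRing B] :
    IsRegularRing (B ⧸ Ideal.span {(1 : B)}) := by
  haveI : Subsingleton (B ⧸ Ideal.span {(1 : B)}) := by
    rw [Ideal.Quotient.subsingleton_iff, Ideal.span_singleton_one]
  exact isRegularRing_iff.2 fun P hP => absurd (Subsingleton.elim P ⊤) hP.ne_top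

/-- Through each point at most one relevant component passes: local equation. -/
theorem exists_local_eq [IsLocallyNoetherian X] {k : Type u} [Field k] (f : X ⟶ Spec (CommRingCat.of k)) [IsIntegral X]
    {r : ℕ} (D : Fin r → X.IdealSheafData) (α : Fin r → ℕ) (hD : LogNCD.IsNCD D f) (P : Fin r → Prop)
    (hP : ∀ j, ¬ P j → α j = 0) (x : X)
    (hx : ∀ j j' : Fin r, P j → P j' → x ∈ (D j).support → x ∈ (D j').support → j = j') :
    ∃ W' : X.Opens, x ∈ W' ∧ ∀ U : X.affineOpens, x ∈ U.1 → U.1 ≤ W' →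
      ∃ (g : Γ(X, U.1)) (β : ℕ), g ≠ 0 ∧ IsRegularRing (Γ(X, U.1) ⧸ Ideal.span {g}) ∧
        (CycCov.divIdeal D α).ideal U = Ideal.span {g ^ β} ∧
        ∀ j, P j → ((D j).ideal U = Ideal.span {g} ∧ α j = β) ∨ (D j).ideal U = ⊤ := by
  classical
  let Bad : Set X := ⋃ j ∈ {j : Fin r | P j ∧ x ∉ (D j).support}, ((D j).support : Set X)
  have hBad : IsClosed Bad :=
    (Set.toFinite _).isClosed_biUnion fun j _ => (D j).support.isClosed
  let W1 : X.Opens := ⟨Badᶜ, hBad.isOpen_compl⟩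
  have hx1 : x ∈ W1 := fun h => by
    obtain ⟨j, hj, hxj⟩ := Set.mem_iUnion₂.1 h
    exact hj.2 hxj
  have htop : ∀ U : X.affineOpens, U.1 ≤ W1 → ∀ j, P j → x ∉ (D j).support → (D j).ideal U = ⊤ :=
    fun U hU j hj hxj => ideal_eq_top_of_disjoint _ U
      (Set.disjoint_left.2 fun y hy hyj => hU hy (Set.mem_iUnion₂.2 ⟨j, ⟨hj, hxj⟩, hyj⟩))
  have hdiv : ∀ U : X.affineOpens, (CycCov.divIdeal D α).ideal U = ∏ j, (D j).ideal U ^ α j :=
    fun U => ideal_prod_eq D α U
  by_cases hex : ∃ j₀, P j₀ ∧ x ∈ (D j₀).support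
  · obtain ⟨j₀, hj₀, hxj₀⟩ := hex
    obtain ⟨W', hxW', n, v, e, -, hv, heq, -⟩ := hD x ⟨⟨j₀, hxj₀⟩⟩
    refine ⟨W' ⊓ W1, ⟨hxW', hx1⟩, fun U hxU hU => ?_⟩
    have hUW : U.1 ≤ W' := hU.trans inf_le_left
    haveI : Nonempty ↥(U.1 : Scheme.{u}) := ⟨⟨x, hxU⟩⟩
    haveI : IsDomain Γ(X, U.1) := IsIntegral.component_integral U.1
    obtain ⟨hg, hreg⟩ := regular_coord f W' v hv U hUW (ULift.up (e ⟨j₀, hxj₀⟩))
    have hspan := heq ⟨j₀, hxj₀⟩ U hUW
    have hothers : ∀ j, P j → j ≠ j₀ → (D j).ideal U = ⊤ := fun j hj hne =>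
      htop U (hU.trans inf_le_right) j hj fun hxj => hne (hx j j₀ hj hj₀ hxj hxj₀)
    refine ⟨_, α j₀, hg, hreg, ?_, fun j hj => ?_⟩
    · rw [hdiv, Finset.prod_eq_single j₀ (fun j _ hne => ?_) (fun h => absurd (Finset.mem_univ _) h), hspan,
        Ideal.span_singleton_pow]
      by_cases hj : P j
      · rw [hothers j hj hne, Ideal.top_pow, Ideal.one_eq_top]
      · rw [hP j hj, pow_zero]
    · by_cases hne : j = j₀
      · subst hne; exact .inl ⟨hspan, rfl⟩
      · exact .inr (hothers j hj hne)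
  · refine ⟨W1, hx1, fun U hxU hU => ?_⟩
    haveI : Nonempty ↥(U.1 : Scheme.{u}) := ⟨⟨x, hxU⟩⟩
    haveI : IsDomain Γ(X, U.1) := IsIntegral.component_integral U.1
    haveI : IsNoetherianRing Γ(X, U.1) := IsLocallyNoetherian.component_noetherian U
    push_neg at hex
    refine ⟨1, 0, one_ne_zero, isRegularRing_quot_one _, ?_, fun j hj => .inr (htop U hU j hj (hex j hj))⟩
    rw [hdiv, pow_zero, Ideal.span_singleton_one]
    refine Finset.prod_eq_one (fun j _ => ?_) |>.trans Ideal.one_eq_top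
    by_cases hj : P j
    · rw [htop U hU j hj (hex j hj), Ideal.top_pow, Ideal.one_eq_top]
    · rw [hP j hj, pow_zero]

variable {L : X.Modules} {N : ℕ} {s : Coh.structureModule X ⟶ CohB1.tensorPow L N} {π : Y ⟶ X}

theorem map_span_radical {A S : Type u} [CommRing A] [CommRing S] (φ : A →+* S) (g : A) (x e : S) (he : IsUnit e)
    (hg : φ g = e * x) : (Ideal.span {g}).map φ = Ideal.span {x} := by
  rw [Ideal.map_span, Set.image_singleton, hg, Ideal.span_singleton_mul_left_unit he]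

/-- Local structure of the cover over a neighbourhood of `x`. -/
theorem local_chart {k : Type u} [Field k] (f : X ⟶ Spec (CommRingCat.of k)) [Smooth f] [IsIntegral X]
    (hL : PicF.IsInvertible L) (hN : 0 < N) (hNk : (N : k) ≠ 0)
    {r : ℕ} (D : Fin r → X.IdealSheafData) (α : Fin r → ℕ) (hD : LogNCD.IsNCD D f)
    (hs : CycCov.IsZeroDiv (CohB1.tensorPow L N) s (CycCov.divIdeal D α))
    (R : CycCov.Root L N s π) (hR : CycCov.IsCover R) (P : Fin r → Prop) (hP : ∀ j, ¬ P j → α j = 0)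
    (W : X.Opens) (x : X) (hxW : x ∈ W)
    (hx : ∀ j j' : Fin r, P j → P j' → x ∈ (D j).support → x ∈ (D j').support → j = j') :
    ∃ U : X.affineOpens, x ∈ U.1 ∧ U.1 ≤ W ∧ IsAffineOpen (π ⁻¹ᵁ U.1) ∧ IsRegularRing Γ(Y, π ⁻¹ᵁ U.1) ∧
      (∀ j, P j → ((D j).ideal U).map (π.app U.1).hom =
        (((D j).ideal U).map (π.app U.1).hom).radical ^ (N / Nat.gcd N (α j))) ∧
      ∀ j, P j → x ∈ (D j).support → ∃ (g u : Γ(X, U.1)) (z ε t : Γ(Y, π ⁻¹ᵁ U.1)) (d : ℕ),
        (D j).ideal U = Ideal.span {g} ∧ IsUnit ε ∧ (π.app U.1).hom g = ε * z ^ (N / Nat.gcd N (α j)) ∧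
        IsUnit t ∧ IsUnit (d : Γ(X, U.1)) ∧ t ^ d = (π.app U.1).hom u ∧
        (letI := (π.app U.1).hom.toAlgebra
         Algebra.adjoin Γ(X, U.1) ({z, t} : Set Γ(Y, π ⁻¹ᵁ U.1)) = ⊤ ∧ Module.Flat Γ(X, U.1) Γ(Y, π ⁻¹ᵁ U.1)) := by
  obtain ⟨hfin, hY, W₀, hW₀, hW₀', hchart⟩ := hR
  haveI := hfin
  haveI : ∀ y : Y, _root_.IsReduced (Y.presheaf.stalk y) := fun y => by
    haveI := (hY y).1
    infer_instance
  haveI : IsReduced Y := AlgebraicGeometry.isReduced_of_isReduced_stalk Y
  haveI : IsLocallyNoetherian X := LocallyOfFiniteType.isLocallyNoetherian f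
  obtain ⟨O, e₀, hxO, he₀⟩ := ParaFLib.exists_gen_nhd hL x
  obtain ⟨W', hxW', hloc'⟩ := exists_local_eq f D α hD P hP x hx
  obtain ⟨U₀, hU₀, hxU, hle⟩ := exists_isAffineOpen_mem_and_subset (show x ∈ O ⊓ (W ⊓ W') from ⟨hxO, hxW, hxW'⟩)
  let U : X.affineOpens := ⟨U₀, hU₀⟩
  have hUW : U.1 ≤ W := fun z hz => (hle hz).2.1
  obtain ⟨g, β, hg0, hreg, hdiv, hcomp⟩ := hloc' U hxU fun z hz => (hle hz).2.2
  haveI := hreg
  have hUne : (U.1 : Set X).Nonempty := ⟨x, hxU⟩
  haveI : Nonempty ↥(U.1 : Scheme.{u}) := hUne.to_subtype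
  haveI : IsDomain Γ(X, U.1) := IsIntegral.component_integral U.1
  haveI : IsRegularRing Γ(X, U.1) := by
    letI : X.Over (Spec (CommRingCat.of k)) := ⟨f⟩
    haveI : Smooth (X ↘ Spec (CommRingCat.of k)) := ‹Smooth f›
    exact isRegularRing_sections U.2 fun y _ => S1535.result k X y
  have hgen : ParaFLib.Gen U.1 (L.presheaf.map (homOfLE (show U.1 ≤ O from fun z hz => (hle hz).1)).op e₀) :=
    he₀.res _
  set e := L.presheaf.map (homOfLE (show U.1 ≤ O from fun z hz => (hle hz).1)).op e₀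
  -- the equation
  have hE : CycCov.IsGen (CohB1.tensorPow L N) U.1 (CycCov.lpow L U.1 e N) :=
    isGen_of_gen (by rw [lpow_eq_powLoc]; exact AmpleLib.gen_powLoc hgen N)
  obtain ⟨c, hc⟩ := hE.2 (SecTwist.val s U.1)
  have hc' : SecTwist.val s U.1 = c • CycCov.lpow L U.1 e N := hc.symm
  have hspan : Ideal.span {c} = Ideal.span {g ^ β} := by
    have h := hs U
    rw [hdiv] at h
    let E : Γ(X, U.1) →ₗ[Γ(X, U.1)] (CohB1.tensorPow L N).val.obj (op U.1) :=
      LinearMap.toSpanSingleton _ _ (CycCov.lpow L U.1 e N)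
    have hbij : Function.Bijective E := hE
    refine Submodule.map_injective_of_injective (f := E) hbij.1 ?_
    have htop : (⊤ : Submodule Γ(X, U.1) ((CohB1.tensorPow L N).val.obj (op U.1))) = Submodule.map E ⊤ := by
      rw [Submodule.map_top, LinearMap.range_eq_top.2 hbij.2]
    rw [htop, ← Submodule.map_smul'', smul_eq_mul, Ideal.mul_top] at h
    refine Eq.trans ?_ h
    rw [Ideal.span, Submodule.map_span, Set.image_singleton]
    exact congrArg (fun z => Submodule.span _ {z}) hc'.symm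
  obtain ⟨w, hw⟩ : ∃ w : Γ(X, U.1)ˣ, c = w * g ^ β := by
    obtain ⟨v, hv⟩ := Ideal.span_singleton_eq_span_singleton.1 hspan
    exact ⟨v⁻¹, by rw [← hv, mul_comm c, ← mul_assoc, Units.inv_mul, one_mul]⟩
  -- bijectivity over `g ≠ 0`
  let V : X.affineOpens := ⟨X.basicOpen g, U.2.basicOpen g⟩
  have hVne : (V.1 : Set X).Nonempty := by
    rw [Set.nonempty_iff_ne_empty]
    exact fun h => hg0 ((AlgebraicGeometry.basicOpen_eq_bot_iff g).1 (Opens.ext h))
  let ρ := (X.presheaf.map (homOfLE (X.basicOpen_le g)).op).hom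
  have hbV : ∀ he hf, Function.Bijective (CycCov.chart R V
      (L.presheaf.map (homOfLE (X.basicOpen_le g)).op e) he (ρ c) hf) := fun _ hf =>
    bijective_chart (isNormalScheme_base f) R hN W₀ hW₀ hW₀' hchart V hVne (isUnit_natCast f hNk _)
      _ (hgen.res (X.basicOpen_le g)) (ρ c) (by
        rw [hw, map_mul, map_pow]
        exact (w.isUnit.map _).mul ((RingedSpace.isUnit_res_basicOpen _ g).pow _)) hf
  have hregY := eq_zero_of_app_mul R U e hgen c hc' hN W₀ hW₀' hchart g hg0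
  have hinj := injective_chart R U e hgen c hc' hN g hVne hbV
  have hsurj := exists_chart_eq R U e hgen c hc' g hregY hbV
  letI := (π.app U.1).hom.toAlgebra
  haveI : Algebra.IsIntegral Γ(X, U.1) Γ(Y, π ⁻¹ᵁ U.1) := ⟨(π.finite_app U.1 U.2).to_isIntegral⟩
  have hmk : ∀ p : Γ(X, U.1)[X], CycCov.chart R U e (isGen_of_gen hgen) c hc' (AdjoinRoot.mk _ p) =
      aeval (R.t U e (isGen_of_gen hgen)) p := fun p => AdjoinRoot.lift_mk _ _
  have hPi : IsAffineOpen (π ⁻¹ᵁ U.1) := U.2.preimage π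
  obtain ⟨hregS, z, ε, t, d, hε, hgz, hrad, ht, hd, htd, hadj, hflat⟩ := local_structure g hg0 N hN (isUnit_natCast f hNk _) w β
    (S := Γ(Y, π ⁻¹ᵁ U.1)) (fun P _ => normal_localization hY hPi P) (R.t U e (isGen_of_gen hgen))
    (by rw [← hw]; exact R.pow_eq U e _ c hc') hregY
    (fun p hp => by
      rw [← hw, ← AdjoinRoot.mk_eq_zero]
      exact hinj (((hmk p).trans hp).trans (map_zero _).symm))
    (fun d => by
      obtain ⟨n, a, ha⟩ := hsurj d
      obtain ⟨p, rfl⟩ := AdjoinRoot.mk_surjective a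
      refine ⟨n, p, ?_⟩
      rw [← hmk, ha]
      congr 2
      exact AdjoinRoot.lift_of _)
  refine ⟨U, hxU, hUW, hPi, hregS, fun j hj => ?_, fun j hj hxj => ?_⟩
  rotate_left
  · rcases hcomp j hj with ⟨hDj, hαj⟩ | hDj
    · exact ⟨g, w, z, ε, t, d, hDj, hε, by rw [hαj]; exact hgz, ht, hd, htd, hadj, hflat⟩
    · rw [(D j).mem_support_iff_of_mem (U := U) hxU, hDj, Scheme.mem_zeroLocus_iff] at hxj
      refine absurd ?_ (hxj 1 Submodule.mem_top)
      rw [Scheme.basicOpen_of_isUnit _ isUnit_one]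
      exact hxU
  rcases hcomp j hj with ⟨hDj, hαj⟩ | hDj
  · have hn : N / Nat.gcd N (α j) ≠ 0 :=
      (Nat.div_pos (Nat.gcd_le_left _ hN) (Nat.gcd_pos_of_pos_left _ hN)).ne'
    rw [hDj, map_span_radical (π.app U.1).hom g (z ^ (N / Nat.gcd N β)) ε hε hgz, ← hαj,
      ← Ideal.span_singleton_pow, Ideal.radical_pow _ hn, hrad.radical]
  · rw [hDj, Ideal.map_top, Ideal.radical_top, Ideal.top_pow]

end Groth.Agent.CycEtaleLib
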