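import Mathlib.RingTheory.Polynomial.Cyclotomic.Roots
import Mathlib.FieldTheory.IsAlgClosed.AlgebraicClosure
import Mathlib.RingTheory.RootsOfUnity.PrimitiveRoots
import Mathlib.RingTheory.Polynomial.GaussLemma
import Mathlib.RingTheory.AdjoinRoot

/-!
# Reducibility of `T^N - a` over a field containing the `N`-th roots of unity
-/

set_option autoImplicit false
set_option linter.style.haveILetI false
universe u
open Polynomial

namespace Groth.Agent.CycEtaleLib

theorem exists_primitiveRoot (k : Type u) [Field k] [IsAlgClosed k] {N : ℕ} (hN : 0 < N) (hNk : (N : k) ≠ 0) :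
    ∃ ζ : k, IsPrimitiveRoot ζ N := by
  haveI : NeZero (N : k) := ⟨hNk⟩
  obtain ⟨ζ, hζ⟩ := IsAlgClosed.exists_root (cyclotomic N k) (degree_cyclotomic_pos N k hN).ne'
  exact ⟨ζ, isRoot_cyclotomic_iff.1 hζ⟩

variable {K : Type u} [Field K]

theorem exists_dvd_pow_of_not_irreducible {N : ℕ} (hN : 0 < N) {ζ : K} (hζ : IsPrimitiveRoot ζ N) {a : K}
    (ha : a ≠ 0) (h : ¬ Irreducible (X ^ N - C a : K[X])) :
    ∃ μ, 1 < μ ∧ μ ∣ N ∧ ∃ b, a = b ^ μ := by
  haveI : NeZero N := ⟨hN.ne'⟩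
  set f : K[X] := X ^ N - C a with hf
  have hfm : f.Monic := monic_X_pow_sub_C a hN.ne'
  have hfd : f.natDegree = N := natDegree_X_pow_sub_C
  have hnu : ¬ IsUnit f := fun hu => by
    have := natDegree_eq_zero_of_isUnit hu
    omega
  obtain ⟨g, hgm, hgi, hgf⟩ := Polynomial.exists_monic_irreducible_factor f hnu
  set d := g.natDegree with hd
  have hd0 : 0 < d := hgi.natDegree_pos
  have hdN : d < N := by
    rcases lt_or_ge d N with h' | h'
    · exact h'
    · refine absurd ?_ h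
      rw [eq_of_monic_of_dvd_of_natDegree_le hgm hfm hgf (by omega)]
      exact hgi
  let Ω := AlgebraicClosure K
  let ι := algebraMap K Ω
  obtain ⟨α, hα⟩ := IsAlgClosed.exists_pow_nat_eq (ι a) hN
  have hζ' : IsPrimitiveRoot (ι ζ) N := hζ.map_of_injective ι.injective
  have hα0 : α ≠ 0 := by
    intro h0
    rw [h0, zero_pow hN.ne'] at hα
    exact ha ((map_eq_zero ι).1 hα.symm)
  have key : ∀ t : Multiset Ω, (∀ r ∈ t, r ^ N = ι a) → ∃ c : K, c ≠ 0 ∧ t.prod = ι c * α ^ t.card := by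
    intro t
    induction t using Multiset.induction with
    | empty => exact fun _ => ⟨1, one_ne_zero, by simp⟩
    | cons r t ih =>
      intro hr
      obtain ⟨c, hc0, hc⟩ := ih fun x hx => hr x (Multiset.mem_cons_of_mem hx)
      obtain ⟨i, -, hi⟩ := hζ'.eq_pow_of_pow_eq_one (ξ := r / α) (by
        rw [div_pow, hr r (Multiset.mem_cons_self r t), hα, div_self (fun h0 => ha ((map_eq_zero ι).1 h0))])
      have hr' : r = ι ζ ^ i * α := by rw [hi, div_mul_cancel₀ r hα0]
      refine ⟨ζ ^ i * c, mul_ne_zero (pow_ne_zero _ (hζ.ne_zero hN.ne')) hc0, ?_⟩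
      rw [Multiset.prod_cons, Multiset.card_cons, hc, hr', map_mul, map_pow, pow_succ]
      ring
  have hsp : (g.map ι).Splits := IsAlgClosed.splits _
  have hroots : ∀ r ∈ (g.map ι).roots, r ^ N = ι a := by
    intro r hr
    have h1 : (f.map ι).IsRoot r := (isRoot_of_mem_roots hr).dvd (Polynomial.map_dvd ι hgf)
    rwa [hf, Polynomial.map_sub, Polynomial.map_pow, map_X, map_C, IsRoot.def, eval_sub, eval_pow, eval_X,
      eval_C, sub_eq_zero] at h1
  obtain ⟨c, hc0, hc⟩ := key _ hroots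
  have hcard : (g.map ι).roots.card = d := by
    rw [← hsp.natDegree_eq_card_roots, natDegree_map]
  have hprod := hsp.coeff_zero_eq_prod_roots_of_monic (hgm.map ι)
  rw [natDegree_map, coeff_map, hc, hcard, ← hd] at hprod
  have hmem : α ^ d ∈ ι.fieldRange := by
    refine ⟨((-1 : K) ^ d) * g.coeff 0 / c, ?_⟩
    rw [map_div₀, map_mul, map_pow, map_neg, map_one, hprod, div_eq_iff (fun h0 => hc0 ((map_eq_zero ι).1 h0))]
    rw [← mul_assoc, ← mul_pow, neg_one_mul, neg_neg, one_pow, one_mul, mul_comm]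
  have hmemN : α ^ N ∈ ι.fieldRange := ⟨a, hα.symm⟩
  obtain ⟨b, hb⟩ : α ^ Nat.gcd d N ∈ ι.fieldRange := by
    have : α ^ ((Nat.gcd d N : ℕ) : ℤ) = (α ^ d) ^ Nat.gcdA d N * (α ^ N) ^ Nat.gcdB d N := by
      rw [← zpow_natCast α d, ← zpow_natCast α N, ← zpow_mul, ← zpow_mul, ← zpow_add₀ hα0, ← Nat.gcd_eq_gcd_ab]
    rw [← zpow_natCast, this]
    exact mul_mem (zpow_mem hmem _) (zpow_mem hmemN _)
  have he : Nat.gcd d N ∣ N := Nat.gcd_dvd_right _ _
  have hed : Nat.gcd d N ≤ d := Nat.gcd_le_left N hd0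
  have he0 : 0 < Nat.gcd d N := Nat.gcd_pos_of_pos_left N hd0
  have hmul : Nat.gcd d N * (N / Nat.gcd d N) = N := Nat.mul_div_cancel' he
  refine ⟨N / Nat.gcd d N, ?_, ⟨Nat.gcd d N, by rw [mul_comm]; exact hmul.symm⟩, b, ι.injective ?_⟩
  · by_contra hle
    have : Nat.gcd d N * (N / Nat.gcd d N) ≤ Nat.gcd d N * 1 := Nat.mul_le_mul_left _ (not_lt.1 hle)
    omega
  · show ι a = ι (b ^ _)
    rw [map_pow, hb, ← pow_mul, hmul, hα]

theorem not_irreducible_of_pow {μ m : ℕ} (hμ : 1 < μ) (hm : 0 < m) (b : K) :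
    ¬ Irreducible (X ^ (m * μ) - C (b ^ μ) : K[X]) := by
  intro h
  have hdvd : X ^ m - C b ∣ (X ^ (m * μ) - C (b ^ μ) : K[X]) := by
    rw [pow_mul, map_pow]
    exact sub_dvd_pow_sub_pow _ _ _
  obtain ⟨q, hq⟩ := hdvd
  have hm0 : (X ^ m - C b : K[X]) ≠ 0 := (monic_X_pow_sub_C b hm.ne').ne_zero
  rcases h.isUnit_or_isUnit hq with hu | hu
  · have := natDegree_eq_zero_of_isUnit hu
    rw [natDegree_X_pow_sub_C] at this
    omega
  · have h1 := congrArg natDegree hq
    rw [natDegree_X_pow_sub_C, natDegree_mul hm0 hu.ne_zero, natDegree_X_pow_sub_C,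
      natDegree_eq_zero_of_isUnit hu, add_zero] at h1
    exact absurd h1 (ne_of_gt (Nat.lt_mul_iff_one_lt_right hm |>.2 hμ))

theorem isDomain_adjoinRoot_iff {B : Type u} [CommRing B] [IsDomain B] [IsIntegrallyClosed B] (K : Type u) [Field K]
    [Algebra B K] [IsFractionRing B K] {f : B[X]} (hf : f.Monic) :
    IsDomain (AdjoinRoot f) ↔ Irreducible (f.map (algebraMap B K)) := by
  have hinj : Function.Injective (algebraMap B K) := IsFractionRing.injective B K
  have hne : f ≠ 0 := hf.ne_zero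
  constructor
  · intro h
    have hp : (Ideal.span {f}).IsPrime := (Ideal.Quotient.isDomain_iff_prime _).1 h
    exact (hf.irreducible_iff_irreducible_map_fraction_map (K := K)).1
      ((Ideal.span_singleton_prime hne).1 hp).irreducible
  · intro h
    refine AdjoinRoot.isDomain_of_prime ⟨hne, fun hu => h.not_isUnit (hu.map (mapRingHom (algebraMap B K))), ?_⟩
    intro p q hpq
    have h1 := Polynomial.map_dvd (algebraMap B K) hpq
    rw [Polynomial.map_mul] at h1
    rcases h.prime.2.2 _ _ h1 with h2 | h2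
    · exact Or.inl ((Polynomial.map_dvd_map _ hinj hf).1 h2)
    · exact Or.inr ((Polynomial.map_dvd_map _ hinj hf).1 h2)

theorem ne_zero_of_isReduced_adjoinRoot {B : Type u} [CommRing B] [IsDomain B] {N : ℕ} (hN : 1 < N) (a : B)
    [IsReduced (AdjoinRoot (X ^ N - C a : B[X]))] : a ≠ 0 := by
  rintro rfl
  have hroot : AdjoinRoot.root (X ^ N - C (0 : B)) ^ N = 0 := by
    rw [← AdjoinRoot.mk_X, ← map_pow, AdjoinRoot.mk_eq_zero, map_zero, sub_zero]
  have h0 := IsReduced.eq_zero _ ⟨N, hroot⟩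
  rw [← AdjoinRoot.mk_X, AdjoinRoot.mk_eq_zero, map_zero, sub_zero] at h0
  have := natDegree_le_of_dvd h0 X_ne_zero
  rw [natDegree_X_pow, natDegree_X] at this
  omega

end Groth.Agent.CycEtaleLib
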