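import Groth.Agent.CycEtaleLib.Main
import Groth.Agent.CycEtaleLib.KummerRed
import Groth.Agent.AmpleLib.GenLocus
import Mathlib.AlgebraicGeometry.FunctionField

/-!
# When is the cyclic cover irreducible?
-/

set_option autoImplicit false
set_option backward.isDefEq.respectTransparency false
set_option backward.isDefEq.respectTransparency.types false
set_option linter.style.haveILetI false
set_option maxHeartbeats 2000000
universe u

open CategoryTheory AlgebraicGeometry Opposite TopologicalSpace Polynomial CycCov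
open Groth.Agent.ParaFLib Groth.Agent.PullbackMod Groth.Agent.AmpleLib

noncomputable section

namespace Groth.Agent.CycEtaleLib

variable {X Y : Scheme.{u}}

theorem mem_genericPoint [IsIntegral X] {U : X.Opens} {x : X} (hx : x ∈ U) : genericPoint X ∈ U :=
  ((genericPoint_spec X).mem_open_set_iff U.isOpen).2 ⟨x, trivial, hx⟩

theorem irreducibleSpace_iff_isDomain [IsReduced Y] {V : Y.Opens} (hV : IsAffineOpen V)
    (hd : Dense (V : Set Y)) (hne : (V : Set Y).Nonempty) : IrreducibleSpace Y ↔ IsDomain Γ(Y, V) := by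
  constructor
  · intro h
    haveI : IsIntegral Y := isIntegral_of_irreducibleSpace_of_isReduced Y
    haveI : Nonempty ↥V := hne.to_subtype
    haveI : Nonempty ↥(V : Scheme.{u}) := hne.to_subtype
    exact IsIntegral.component_integral V
  · intro h
    haveI : IsIntegral (Spec Γ(Y, V)) := inferInstance
    have h1 : IsIrreducible (V : Set Y) := by
      rw [← hV.range_fromSpec, ← Set.image_univ]
      exact (IrreducibleSpace.isIrreducible_univ _).image _ hV.fromSpec.continuous.continuousOn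
    have h2 := h1.closure
    rw [hd.closure_eq] at h2
    exact (irreducibleSpace_def Y).2 h2

variable {L : X.Modules}

theorem germ_powLoc {U V : X.Opens} {e₀ : Γ(L, U)} (h₀ : ParaFLib.Gen U e₀) (e : Γ(L, V)) (x : X)
    (hU : x ∈ U) (hV : x ∈ V) (c : X.presheaf.stalk x)
    (h : L.presheaf.germ V x hV e = c • L.presheaf.germ U x hU e₀) (n : ℕ) :
    (CohB1.tensorPow L n).presheaf.germ V x hV (powLoc e n) =
      c ^ n • (CohB1.tensorPow L n).presheaf.germ U x hU (powLoc e₀ n) := by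
  have hx : x ∈ V ⊓ U := ⟨hV, hU⟩
  obtain ⟨r, hr⟩ := (h₀ (V ⊓ U) inf_le_right).2 (L.presheaf.map (homOfLE inf_le_left).op e)
  change r • L.presheaf.map (homOfLE inf_le_right).op e₀ = L.presheaf.map (homOfLE inf_le_left).op e at hr
  have hc : X.presheaf.germ (V ⊓ U) x hx r = c := (h₀.bijective_germ x hU).1 (by
    show X.presheaf.germ (V ⊓ U) x hx r • L.presheaf.germ U x hU e₀ = c • L.presheaf.germ U x hU e₀
    rw [← h, ← TopCat.Presheaf.germ_res_apply L.presheaf (homOfLE (inf_le_left : V ⊓ U ≤ V)) x hx e, ← hr,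
      germ_smul', TopCat.Presheaf.germ_res_apply])
  rw [← TopCat.Presheaf.germ_res_apply (CohB1.tensorPow L n).presheaf (homOfLE (inf_le_left : V ⊓ U ≤ V)) x hx,
    powLoc_res, ← hr, powLoc_smul, germ_smul', map_pow, hc, ← powLoc_res, TopCat.Presheaf.germ_res_apply]

theorem germ_val {M : X.Modules} (s : Coh.structureModule X ⟶ M) (U V : X.Opens) (x : X) (hU : x ∈ U) (hV : x ∈ V) :
    M.presheaf.germ V x hV (SecTwist.val s V) = M.presheaf.germ U x hU (SecTwist.val s U) := by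
  have hx : x ∈ V ⊓ U := ⟨hV, hU⟩
  refine (TopCat.Presheaf.germ_res_apply M.presheaf (homOfLE (inf_le_left : V ⊓ U ≤ V)) x hx _).symm.trans
    (Eq.trans ?_ (TopCat.Presheaf.germ_res_apply M.presheaf (homOfLE (inf_le_right : V ⊓ U ≤ U)) x hx _))
  exact congrArg (M.presheaf.germ (V ⊓ U) x hx) ((SecTwist.map_val s (homOfLE (inf_le_left : V ⊓ U ≤ V))).trans
    (SecTwist.map_val s (homOfLE (inf_le_right : V ⊓ U ≤ U))).symm)

theorem germ_val_eq {n : ℕ} (s : Coh.structureModule X ⟶ CohB1.tensorPow L n) {V : X.Opens} (e : Γ(L, V))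
    (a : Γ(X, V)) (h : SecTwist.val s V = a • CycCov.lpow L V e n) (x : X) (hV : x ∈ V) :
    (CohB1.tensorPow L n).presheaf.germ V x hV (SecTwist.val s V) =
      X.presheaf.germ V x hV a • (CohB1.tensorPow L n).presheaf.germ V x hV (powLoc e n) := by
  rw [lpow_eq_powLoc] at h
  exact (congrArg _ h).trans (germ_smul' x hV a _)

theorem germ_coeff {n : ℕ} (s : Coh.structureModule X ⟶ CohB1.tensorPow L n) {U V : X.Opens} {e₀ : Γ(L, U)}
    (h₀ : ParaFLib.Gen U e₀) (e : Γ(L, V)) (x : X) (hU : x ∈ U) (hV : x ∈ V) (γ : X.presheaf.stalk x)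
    (hγ : L.presheaf.germ V x hV e = γ • L.presheaf.germ U x hU e₀) (a₀ : Γ(X, U)) (a : Γ(X, V))
    (ha₀ : SecTwist.val s U = a₀ • CycCov.lpow L U e₀ n) (ha : SecTwist.val s V = a • CycCov.lpow L V e n) :
    X.presheaf.germ V x hV a * γ ^ n = X.presheaf.germ U x hU a₀ := by
  refine ((gen_powLoc h₀ n).bijective_germ x hU).1 ?_
  show (_ * _) • _ = X.presheaf.germ U x hU a₀ • _
  rw [mul_smul, ← germ_powLoc h₀ e x hU hV γ hγ n, ← germ_val_eq s e a ha, ← germ_val_eq s e₀ a₀ ha₀]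
  exact germ_val s U V x hU hV

theorem exists_coeff (hL : PicF.IsInvertible L) {N : ℕ} (s : Coh.structureModule X ⟶ CohB1.tensorPow L N)
    (W : X.Opens) {x : X} (hx : x ∈ W) :
    ∃ (U : X.affineOpens) (e : Γ(L, U.1)) (a : Γ(X, U.1)), x ∈ U.1 ∧ U.1 ≤ W ∧ ParaFLib.Gen U.1 e ∧
      SecTwist.val s U.1 = a • CycCov.lpow L U.1 e N := by
  obtain ⟨O, e, hxO, he⟩ := ParaFLib.exists_gen_nhd hL x
  obtain ⟨U, hU, hxU, hle⟩ := exists_isAffineOpen_mem_and_subset (show x ∈ O ⊓ W from ⟨hxO, hx⟩)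
  have he' := he.res (show U ≤ O from fun z hz => (hle hz).1)
  obtain ⟨a, ha⟩ := ((gen_powLoc he' N) U le_rfl).2 (SecTwist.val s U)
  refine ⟨⟨U, hU⟩, _, a, hxU, fun z hz => (hle hz).2, he', ?_⟩
  rw [lpow_eq_powLoc]
  refine ha.symm.trans ?_
  exact congrArg (a • ·) (ParaFLib.res_self _ _)

variable {N : ℕ} {s : Coh.structureModule X ⟶ CohB1.tensorPow L N} {π : Y ⟶ X}

theorem dense_preimage [IsIntegral X] [IsReduced Y] [IsFinite π] (hL : PicF.IsInvertible L) (hN : 0 < N)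
    (R : CycCov.Root L N s π) (W₀ : X.Opens) (hW₀' : Dense ((π ⁻¹ᵁ W₀ : Y.Opens) : Set Y))
    (hchart : ∀ (U : X.affineOpens), U.1 ≤ W₀ →
        ∀ (e : L.val.obj (op U.1)) (he : IsGen L U.1 e) (f : Γ(X, U.1))
          (hf : SecTwist.val s U.1 = f • lpow L U.1 e N), Function.Bijective (chart R U e he f hf))
    {U : X.Opens} (hne : genericPoint X ∈ U) : Dense ((π ⁻¹ᵁ U : Y.Opens) : Set Y) := by
  rw [dense_iff_inter_open]
  intro O hO hOne
  obtain ⟨y, hyO, hyW⟩ := hW₀'.inter_open_nonempty O hO hOne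
  obtain ⟨V, e, f, hxV, hVW, he, hf⟩ := exists_coeff hL s W₀ (x := π.base y) hyW
  obtain ⟨c, hcO, hyc⟩ := (V.2.preimage π).exists_basicOpen_le (V := ⟨O, hO⟩) ⟨y, hyO⟩ hxV
  obtain ⟨g, hgU, hgη⟩ := V.2.exists_basicOpen_le (V := U) ⟨genericPoint X, hne⟩ (mem_genericPoint hxV)
  have hg0 : g ≠ 0 := by
    rintro rfl
    rw [Scheme.basicOpen_zero] at hgη
    exact hgη
  by_contra hempty
  have h0 : (π.app V.1).hom g * c = 0 := by
    refine (AlgebraicGeometry.basicOpen_eq_bot_iff _).1 ?_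
    rw [Scheme.basicOpen_mul]
    refine eq_bot_iff.2 fun z hz => hempty ⟨z, hcO hz.2, ?_⟩
    have h1 : z ∈ π ⁻¹ᵁ X.basicOpen g := by
      rw [Scheme.preimage_basicOpen]
      exact hz.1
    exact hgU h1
  rw [eq_zero_of_app_mul R V e he f hf hN W₀ hW₀' hchart g hg0 c h0, Scheme.basicOpen_zero] at hyc
  exact hyc

/-- Irreducibility of the cover is irreducibility of `T^N - a` at the generic point. -/
theorem irreducibleSpace_iff [IsIntegral X] (hX : Pi1.IsNormalScheme X) (hL : PicF.IsInvertible L) (hN : 0 < N)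
    [IsFinite π] [IsReduced Y]
    (R : CycCov.Root L N s π) (W₀ : X.Opens) (hW₀ : Dense (W₀ : Set X))
    (hW₀' : Dense ((π ⁻¹ᵁ W₀ : Y.Opens) : Set Y))
    (hchart : ∀ (U : X.affineOpens), U.1 ≤ W₀ →
        ∀ (e : L.val.obj (op U.1)) (he : IsGen L U.1 e) (f : Γ(X, U.1))
          (hf : SecTwist.val s U.1 = f • lpow L U.1 e N), Function.Bijective (chart R U e he f hf)) :
    ∃ (U : X.affineOpens) (e₀ : Γ(L, U.1)) (a₀ : Γ(X, U.1)) (hη : genericPoint X ∈ U.1),
      ParaFLib.Gen U.1 e₀ ∧ SecTwist.val s U.1 = a₀ • CycCov.lpow L U.1 e₀ N ∧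
      (1 < N → X.presheaf.germ U.1 (genericPoint X) hη a₀ ≠ 0) ∧
      (IrreducibleSpace Y ↔ Irreducible
        (Polynomial.X ^ N - Polynomial.C (X.presheaf.germ U.1 (genericPoint X) hη a₀) : X.functionField[X])) := by
  obtain ⟨x, hx⟩ := hW₀.nonempty
  obtain ⟨U, e₀, a₀, hxU, hUW, he₀, ha₀⟩ := exists_coeff hL s W₀ hx
  have hη := mem_genericPoint hxU
  refine ⟨U, e₀, a₀, hη, he₀, ha₀, ?_⟩
  haveI : Nonempty ↥U.1 := ⟨⟨x, hxU⟩⟩
  haveI : Nonempty ↥(U.1 : Scheme.{u}) := ⟨⟨x, hxU⟩⟩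
  haveI : IsDomain Γ(X, U.1) := IsIntegral.component_integral U.1
  haveI : IsIntegrallyClosed Γ(X, U.1) := CurvQuotLib.isIntegrallyClosed_sections hX U.2
  haveI : IsFractionRing Γ(X, U.1) X.functionField := functionField_isFractionRing_of_isAffineOpen X U.1 U.2
  let E := RingEquiv.ofBijective _ (hchart U hUW e₀ (isGen_of_gen he₀) a₀ ha₀)
  haveI : _root_.IsReduced (AdjoinRoot (Polynomial.X ^ N - Polynomial.C a₀ : Γ(X, U.1)[X])) :=
    isReduced_of_injective E.toRingHom E.injective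
  have hmap : (Polynomial.X ^ N - Polynomial.C a₀ : Γ(X, U.1)[X]).map (algebraMap Γ(X, U.1) X.functionField) =
      Polynomial.X ^ N - Polynomial.C (X.presheaf.germ U.1 (genericPoint X) hη a₀) := by
    rw [Polynomial.map_sub, Polynomial.map_pow, map_X, map_C]
    rfl
  refine ⟨fun h1 h0 => ne_zero_of_isReduced_adjoinRoot h1 a₀
    (germ_injective_of_isIntegral X _ hη (h0.trans (map_zero _).symm)), ?_⟩
  have hne : ((π ⁻¹ᵁ U.1 : Y.Opens) : Set Y).Nonempty := by
    haveI : Nontrivial (AdjoinRoot (Polynomial.X ^ N - Polynomial.C a₀ : Γ(X, U.1)[X])) :=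
      (injective_adjoinRoot_of a₀ hN).nontrivial
    haveI : Nontrivial Γ(Y, π ⁻¹ᵁ U.1) := E.symm.toEquiv.nontrivial
    by_contra hem
    refine one_ne_zero (α := Γ(Y, π ⁻¹ᵁ U.1)) ((AlgebraicGeometry.basicOpen_eq_bot_iff _).1 ?_)
    exact eq_bot_iff.2 fun z hz => hem ⟨z, Y.basicOpen_le _ hz⟩
  rw [irreducibleSpace_iff_isDomain (U.2.preimage π) (dense_preimage hL hN R W₀ hW₀' hchart hη) hne, ← hmap,
    ← isDomain_adjoinRoot_iff X.functionField (monic_X_pow_sub_C a₀ hN.ne')]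
  exact ⟨fun _ => E.toMulEquiv.isDomain, fun _ => E.symm.toMulEquiv.isDomain⟩

/-- A root at the generic point globalises to a root as a section. -/
theorem exists_root_section [IsIntegral X] (hX : Pi1.IsNormalScheme X) (hL : PicF.IsInvertible L)
    (s : Coh.structureModule X ⟶ CohB1.tensorPow L N) {μ m : ℕ} (hN : N = m * μ) (hμ : 0 < μ)
    {U : X.Opens} {e₀ : Γ(L, U)} (he₀ : ParaFLib.Gen U e₀) (a₀ : Γ(X, U)) (hη : genericPoint X ∈ U)
    (ha₀ : SecTwist.val s U = a₀ • CycCov.lpow L U e₀ N) (β₀ : X.functionField)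
    (hβ : X.presheaf.germ U (genericPoint X) hη a₀ = β₀ ^ μ) :
    ∃ s' : Coh.structureModule X ⟶ CohB1.tensorPow L m,
      ∀ (V : X.Opens) (e : Γ(L, V)), CycCov.IsGen L V e →
        ∀ a b : Γ(X, V), SecTwist.val s V = a • CycCov.lpow L V e N →
          SecTwist.val s' V = b • CycCov.lpow L V e m → a = b ^ μ := by
  let M := CohB1.tensorPow L m
  have hM : PicF.IsInvertible M := isInvertible_tensorPow hL m
  let σ : M.presheaf.stalk (genericPoint X) :=
    (show X.presheaf.stalk (genericPoint X) from β₀) • M.presheaf.germ U _ hη (powLoc e₀ m)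
  have hloc : ∀ x : X, ∃ (V : X.Opens) (τ : Γ(M, V)), x ∈ V ∧
      ∀ hV : genericPoint X ∈ V, M.presheaf.germ V _ hV τ = σ := by
    intro x
    obtain ⟨V, e, a, hxV, -, he, ha⟩ := exists_coeff hL s ⊤ (x := x) trivial
    have hηV := mem_genericPoint hxV
    haveI : Nonempty ↥V.1 := ⟨⟨x, hxV⟩⟩
    haveI : Nonempty ↥(V.1 : Scheme.{u}) := ⟨⟨x, hxV⟩⟩
    haveI : IsDomain Γ(X, V.1) := IsIntegral.component_integral V.1
    haveI : IsIntegrallyClosed Γ(X, V.1) := CurvQuotLib.isIntegrallyClosed_sections hX V.2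
    haveI : IsFractionRing Γ(X, V.1) X.functionField := functionField_isFractionRing_of_isAffineOpen X V.1 V.2
    obtain ⟨γ, hγ⟩ := (he₀.bijective_germ _ hη).2 (L.presheaf.germ V.1 _ hηV e)
    obtain ⟨β, hβ'⟩ := ((gen_powLoc he m).bijective_germ _ hηV).2 σ
    change β • M.presheaf.germ V.1 _ hηV (powLoc e m) = σ at hβ'
    rw [germ_powLoc he₀ e _ hη hηV γ hγ.symm, smul_smul] at hβ'
    have h1 : β * γ ^ m = β₀ := ((gen_powLoc he₀ m).bijective_germ _ hη).1 hβ'
    have h2 := germ_coeff s he₀ e _ hη hηV γ hγ.symm a₀ a ha₀ ha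
    have hγ0 : γ ≠ 0 := by
      rintro rfl
      have h3 : L.presheaf.germ V.1 (genericPoint X) hηV e = 0 := hγ.symm.trans (zero_smul _ _)
      exact one_ne_zero ((he.bijective_germ _ hηV).1
        (show (1 : X.presheaf.stalk (genericPoint X)) • L.presheaf.germ V.1 _ hηV e =
          (0 : X.presheaf.stalk (genericPoint X)) • L.presheaf.germ V.1 _ hηV e by
          rw [h3, smul_zero, smul_zero]))
    have h4 : β ^ μ = X.presheaf.germ V.1 (genericPoint X) hηV a := by
      have h5 : X.presheaf.germ V.1 (genericPoint X) hηV a * γ ^ N = β ^ μ * γ ^ N := by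
        rw [h2, hβ, ← h1, mul_pow, ← pow_mul, ← hN]
      exact (mul_right_cancel₀ (pow_ne_zero N hγ0) h5).symm
    have hint : IsIntegral Γ(X, V.1) (β : X.functionField) :=
      IsIntegral.of_pow hμ (by rw [h4]; exact isIntegral_algebraMap (R := Γ(X, V.1)) (A := X.functionField) (x := a))
    obtain ⟨b, hb⟩ := IsIntegrallyClosed.isIntegral_iff.1 hint
    refine ⟨V.1, b • powLoc e m, hxV, fun hV => ?_⟩
    rw [germ_smul', germ_powLoc he₀ e _ hη hV γ hγ.symm, smul_smul, show X.presheaf.germ V.1 _ hV b = β from hb, h1]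
  choose V τ hxV hτ using hloc
  let F : TopCat.Sheaf Ab.{u} X.carrier := ⟨M.presheaf, M.isSheaf⟩
  have hcompat : TopCat.Presheaf.IsCompatible F.obj V τ := fun i j => by
    refine sub_eq_zero.1 (eq_zero_of_germ_generic hM _ fun hηO => ?_)
    rw [map_sub, sub_eq_zero]
    exact (TopCat.Presheaf.germ_res_apply M.presheaf (homOfLE inf_le_left) _ hηO (τ i)).trans
      ((hτ i hηO.1).trans ((hτ j hηO.2).symm.trans
        (TopCat.Presheaf.germ_res_apply M.presheaf (homOfLE inf_le_right) _ hηO (τ j)).symm))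
  obtain ⟨t, ht, -⟩ := F.existsUnique_gluing' V ⊤ (fun i => homOfLE le_top)
    (fun x _ => TopologicalSpace.Opens.mem_iSup.2 ⟨x, hxV x⟩) τ hcompat
  refine ⟨DCohLib.secHom M t, fun W e he a b ha hb => ?_⟩
  by_cases hW : (W : Set X).Nonempty
  swap
  · haveI : Subsingleton Γ(X, W) := by
      have : W = ⊥ := eq_bot_iff.2 fun z hz => absurd ⟨z, hz⟩ hW
      subst this
      exact CommRingCat.subsingleton_of_isTerminal X.sheaf.isTerminalOfEmpty
    exact Subsingleton.elim _ _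
  obtain ⟨z, hz⟩ := hW
  have hηW := mem_genericPoint hz
  haveI : Nonempty ↥W := ⟨⟨z, hz⟩⟩
  haveI : Nonempty ↥(W : Scheme.{u}) := ⟨⟨z, hz⟩⟩
  haveI : IsDomain Γ(X, W) := IsIntegral.component_integral W
  obtain ⟨γ, hγ⟩ := (he₀.bijective_germ _ hη).2 (L.presheaf.germ W _ hηW e)
  have hγ0 : γ ≠ 0 := by
    rintro rfl
    have h3 : e = 0 := eq_zero_of_germ_generic hL e fun _ => hγ.symm.trans (zero_smul _ _)
    exact one_ne_zero (α := Γ(X, W)) (he.1 (show (1 : Γ(X, W)) • e = (0 : Γ(X, W)) • e by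
      rw [h3, smul_zero, smul_zero]))
  have ht' : M.presheaf.germ W (genericPoint X) hηW (SecTwist.val (DCohLib.secHom M t) W) = σ := by
    have h6 : SecTwist.val (DCohLib.secHom M t) W = M.presheaf.map (homOfLE (le_top : W ≤ ⊤)).op t :=
      DCohLib.secHom_app_one M t W
    rw [h6, TopCat.Presheaf.germ_res_apply]
    have hη' := mem_genericPoint (hxV z)
    refine (TopCat.Presheaf.germ_res_apply M.presheaf (homOfLE (le_top : V z ≤ ⊤)) _ hη' t).symm.trans ?_
    exact (congrArg (M.presheaf.germ (V z) _ hη') (ht z)).trans (hτ z hη')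
  rw [germ_val_eq _ e b hb, germ_powLoc he₀ e _ hη hηW γ hγ.symm, smul_smul] at ht'
  have h1 : X.presheaf.germ W (genericPoint X) hηW b * γ ^ m = β₀ :=
    ((gen_powLoc he₀ m).bijective_germ _ hη).1 ht'
  have h2 := germ_coeff s he₀ e _ hη hηW γ hγ.symm a₀ a ha₀ ha
  have h5 : X.presheaf.germ W (genericPoint X) hηW a * γ ^ N =
      X.presheaf.germ W (genericPoint X) hηW (b ^ μ) * γ ^ N := by
    rw [h2, hβ, ← h1, mul_pow, ← pow_mul, ← hN, map_pow]
  exact germ_injective_of_isIntegral X _ hηW (mul_right_cancel₀ (pow_ne_zero N hγ0) h5)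

theorem not_irreducibleSpace_iff [IsIntegral X] {k : Type u} [Field k] [IsAlgClosed k]
    (f : X ⟶ Spec (CommRingCat.of k)) [Smooth f] (hL : PicF.IsInvertible L) (hN : 0 < N) (hNk : (N : k) ≠ 0)
    (R : CycCov.Root L N s π) (hR : CycCov.IsCover R) :
    ¬ IrreducibleSpace Y ↔
      ∃ μ : ℕ, 1 < μ ∧ μ ∣ N ∧ ∃ s' : Coh.structureModule X ⟶ CohB1.tensorPow L (N / μ),
        ∀ (U : X.affineOpens) (e : L.val.obj (op U.1)), CycCov.IsGen L U.1 e →
          ∀ a b : Γ(X, U.1), SecTwist.val s U.1 = a • CycCov.lpow L U.1 e N →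
            SecTwist.val s' U.1 = b • CycCov.lpow L U.1 e (N / μ) → a = b ^ μ := by
  obtain ⟨hfin, hY, W₀, hW₀, hW₀', hchart⟩ := hR
  haveI := hfin
  haveI : ∀ y : Y, _root_.IsReduced (Y.presheaf.stalk y) := fun y => by
    haveI := (hY y).1
    infer_instance
  haveI : IsReduced Y := AlgebraicGeometry.isReduced_of_isReduced_stalk Y
  have hX := isNormalScheme_base f
  obtain ⟨U, e₀, a₀, hη, he₀, ha₀, hne0, hirr⟩ := irreducibleSpace_iff hX hL hN R W₀ hW₀ hW₀' hchart
  constructor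
  · intro hnot
    rw [hirr] at hnot
    have hN1 : 1 < N := by
      by_contra hle
      obtain rfl : N = 1 := by omega
      exact hnot (irreducible_of_degree_eq_one (by rw [degree_X_pow_sub_C one_pos]; rfl))
    obtain ⟨ζ, hζ⟩ := exists_primitiveRoot k hN hNk
    let ρ : k →+* X.functionField :=
      (X.presheaf.germ U.1 (genericPoint X) hη).hom.comp
        ((Scheme.ΓSpecIso (CommRingCat.of k)).inv ≫ f.appTop ≫
          X.presheaf.map (homOfLE (le_top : U.1 ≤ ⊤)).op).hom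
    obtain ⟨μ, hμ, hμN, β₀, hβ⟩ :=
      exists_dvd_pow_of_not_irreducible hN (hζ.map_of_injective (f := ρ) ρ.injective) (hne0 hN1) hnot
    obtain ⟨s', hs'⟩ := exists_root_section hX hL s (μ := μ) (m := N / μ) (Nat.div_mul_cancel hμN).symm
      (by omega) he₀ a₀ hη ha₀ β₀ hβ
    exact ⟨μ, hμ, hμN, s', fun V e he => hs' V.1 e he⟩
  · rintro ⟨μ, hμ, hμN, s', hs'⟩
    rw [hirr]
    obtain ⟨b, hb⟩ := ((gen_powLoc he₀ (N / μ)) U.1 le_rfl).2 (SecTwist.val s' U.1)
    have hb' : SecTwist.val s' U.1 = b • CycCov.lpow L U.1 e₀ (N / μ) := by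
      rw [lpow_eq_powLoc]
      exact hb.symm.trans (congrArg (b • ·) (ParaFLib.res_self _ _))
    rw [hs' U e₀ (isGen_of_gen he₀) a₀ b ha₀ hb', map_pow]
    have hm : 0 < N / μ := Nat.div_pos (Nat.le_of_dvd hN hμN) (by omega)
    have h := not_irreducible_of_pow hμ hm (K := X.functionField) (X.presheaf.germ U.1 (genericPoint X) hη b)
    rwa [Nat.div_mul_cancel hμN] at h

end Groth.Agent.CycEtaleLib
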