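import Groth.Agent.CycEtaleLib.Algebra
import Groth.Agent.AlterN1.Basic
import Groth.Agent.S1535
import Groth.Agent.CurvQuotLib.Field
import Groth.Agent.AmpleLib.Extend
import Groth.Prelude.Def_CycCov
import Mathlib.AlgebraicGeometry.Morphisms.Etale

/-!
# The cyclic cover is étale away from the branch divisor
-/

set_option autoImplicit false
set_option backward.isDefEq.respectTransparency false
set_option backward.isDefEq.respectTransparency.types false
set_option linter.style.haveILetI false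
set_option maxHeartbeats 1000000
universe u

open CategoryTheory AlgebraicGeometry Opposite TopologicalSpace Polynomial CycCov
open Groth.Agent.ParaFLib Groth.Agent.PullbackMod Groth.Agent.AmpleLib

noncomputable section

namespace Groth.Agent.CycEtaleLib

variable {X Y : Scheme.{u}}

theorem isGen_of_gen {L : X.Modules} {U : X.Opens} {e : Γ(L, U)} (he : ParaFLib.Gen U e) :
    CycCov.IsGen L U e := by
  have h := he U le_rfl
  have hid : L.presheaf.map (homOfLE (le_refl U)).op e = e := ConcreteCategory.congr_hom (L.presheaf.map_id _) e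
  rw [hid] at h
  exact h

theorem lpow_eq_powLoc {L : X.Modules} {U : X.Opens} (e : Γ(L, U)) :
    ∀ n, CycCov.lpow L U e n = AmpleLib.powLoc e n
  | 0 => rfl
  | n + 1 => congrArg (fun v => SecTwist.tmul (CohB1.tensorPow L n) L U v e) (lpow_eq_powLoc e n)

theorem divIdeal_eq_top {r : ℕ} (D : Fin r → X.IdealSheafData) (α : Fin r → ℕ) (U : X.affineOpens)
    (h : ∀ j : Fin r, 0 < α j → Disjoint (U.1 : Set X) ((D j).support : Set X)) :
    (CycCov.divIdeal D α).ideal U = ⊤ := by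
  refine Finset.prod_induction _ (fun I : X.IdealSheafData => I.ideal U = ⊤) (fun I J hI hJ => ?_) ?_ fun j _ => ?_
  · show (I * J).ideal U = ⊤
    rw [Scheme.IdealSheafData.ideal_mul, Pi.mul_apply, hI, hJ, Ideal.mul_top]
  · show ((1 : X.IdealSheafData)).ideal U = ⊤
    rfl
  · show (D j ^ α j).ideal U = ⊤
    rw [Scheme.IdealSheafData.ideal_pow, Pi.pow_apply]
    rcases Nat.eq_zero_or_pos (α j) with h0 | h0
    · rw [h0, pow_zero, Ideal.one_eq_top]
    · have h1 := U.2.fromSpec_image_zeroLocus ((D j).ideal U : Set Γ(X, U.1))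
      rw [← (D j).coe_support_inter U, Set.inter_comm, (h j h0).inter_eq, Set.image_eq_empty,
        PrimeSpectrum.zeroLocus_empty_iff_eq_top] at h1
      rw [h1, Ideal.top_pow]

theorem exists_unit_coeff {L : X.Modules} {N : ℕ} (s : Coh.structureModule X ⟶ CohB1.tensorPow L N)
    (U : X.affineOpens) (e : Γ(L, U.1)) (he : ParaFLib.Gen U.1 e) (I : X.IdealSheafData) (hI : I.ideal U = ⊤)
    (hs : CycCov.IsZeroDiv (CohB1.tensorPow L N) s I) :
    ∃ f : Γ(X, U.1), IsUnit f ∧ SecTwist.val s U.1 = f • CycCov.lpow L U.1 e N := by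
  have hE : CycCov.IsGen (CohB1.tensorPow L N) U.1 (CycCov.lpow L U.1 e N) :=
    isGen_of_gen (by rw [lpow_eq_powLoc]; exact AmpleLib.gen_powLoc he N)
  obtain ⟨f, hf⟩ := hE.2 (SecTwist.val s U.1)
  refine ⟨f, ?_, hf.symm⟩
  have h := hs U
  rw [hI, Submodule.top_smul] at h
  obtain ⟨b, hb⟩ := Submodule.mem_span_singleton.1 (h.ge (Submodule.mem_top (x := CycCov.lpow L U.1 e N)))
  refine IsUnit.of_mul_eq_one b (hE.1 ?_)
  show (f * b) • CycCov.lpow L U.1 e N = (1 : Γ(X, U.1)) • CycCov.lpow L U.1 e N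
  rw [one_smul, mul_comm, mul_smul]
  exact (congrArg (b • ·) hf).trans hb

variable {L : X.Modules} {N : ℕ} {s : Coh.structureModule X ⟶ CohB1.tensorPow L N} {π : Y ⟶ X}

theorem val_res {U V : X.affineOpens} (h : V.1 ≤ U.1) (e : Γ(L, U.1)) (f : Γ(X, U.1))
    (hf : SecTwist.val s U.1 = f • CycCov.lpow L U.1 e N) :
    SecTwist.val s V.1 = (X.presheaf.map (homOfLE h).op).hom f •
      CycCov.lpow L V.1 (L.presheaf.map (homOfLE h).op e) N := by
  rw [lpow_eq_powLoc, ← AmpleLib.powLoc_res h e N, ← lpow_eq_powLoc]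
  refine (SecTwist.map_val s (homOfLE h)).symm.trans ?_
  exact (congrArg ((CohB1.tensorPow L N).presheaf.map (homOfLE h).op) hf).trans
    ((CohB1.tensorPow L N).map_smul _ _ _)

/-- The charts commute with restriction. -/
theorem chart_res (R : CycCov.Root L N s π) {U V : X.affineOpens} (h : V.1 ≤ U.1) (e : Γ(L, U.1))
    (he : CycCov.IsGen L U.1 e) (he' : CycCov.IsGen L V.1 (L.presheaf.map (homOfLE h).op e)) (f : Γ(X, U.1))
    (hf : SecTwist.val s U.1 = f • CycCov.lpow L U.1 e N) (hd) :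
    (CycCov.chart R V (L.presheaf.map (homOfLE h).op e) he' _ (val_res h e f hf)).comp
        (AdjoinRoot.map (X.presheaf.map (homOfLE h).op).hom (Polynomial.X ^ N - Polynomial.C f) _ hd) =
      ((Y.presheaf.map (homOfLE (π.preimage_mono h)).op).hom).comp (CycCov.chart R U e he f hf) := by
  refine Ideal.Quotient.ringHom_ext (Polynomial.ringHom_ext (fun b => ?_) ?_)
  · show CycCov.chart R V _ he' _ (val_res h e f hf) (AdjoinRoot.map _ _ _ hd (AdjoinRoot.of _ b)) =
      (Y.presheaf.map (homOfLE (π.preimage_mono h)).op).hom (CycCov.chart R U e he f hf (AdjoinRoot.of _ b))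
    rw [AdjoinRoot.map_of]
    simp only [CycCov.chart, AdjoinRoot.lift_of]
    exact ConcreteCategory.congr_hom (π.naturality (homOfLE h).op) b
  · show CycCov.chart R V _ he' _ (val_res h e f hf) (AdjoinRoot.map _ _ _ hd (AdjoinRoot.root _)) =
      (Y.presheaf.map (homOfLE (π.preimage_mono h)).op).hom (CycCov.chart R U e he f hf (AdjoinRoot.root _))
    rw [AdjoinRoot.map_root]
    simp only [CycCov.chart, AdjoinRoot.lift_root]
    exact (R.t_res U V h e he he').symm

theorem map_sub_eq {B B' : Type u} [CommRing B] [CommRing B'] (ρ : B →+* B') (f : B) (N : ℕ) :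
    (Polynomial.X ^ N - Polynomial.C f : B[X]).map ρ = Polynomial.X ^ N - Polynomial.C (ρ f) := by
  simp

theorem isNormalScheme_base {k : Type u} [Field k] (f : X ⟶ Spec (CommRingCat.of k)) [Smooth f] :
    Pi1.IsNormalScheme X := by
  letI : X.Over (Spec (CommRingCat.of k)) := ⟨f⟩
  haveI : Smooth (X ↘ Spec (CommRingCat.of k)) := ‹Smooth f›
  exact AlterN1.isNormalScheme_of_regular X fun y => S1535.result k X y

theorem isUnit_natCast {k : Type u} [Field k] (f : X ⟶ Spec (CommRingCat.of k)) {N : ℕ} (hNk : (N : k) ≠ 0)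
    (U : X.Opens) : IsUnit (N : Γ(X, U)) := by
  have h := (IsUnit.mk0 _ hNk).map ((Scheme.ΓSpecIso (CommRingCat.of k)).inv ≫ f.appTop ≫
    X.presheaf.map (homOfLE (le_top : U ≤ ⊤)).op).hom
  rwa [map_natCast] at h

set_option maxHeartbeats 4000000 in
/-- A nonzero function is a non-zero-divisor on the cover. -/
theorem eq_zero_of_app_mul [IsReduced Y] [IsIntegral X] [IsFinite π] (R : CycCov.Root L N s π)
    (U : X.affineOpens) (e : Γ(L, U.1)) (hgen : ParaFLib.Gen U.1 e)
    (f : Γ(X, U.1)) (hf : SecTwist.val s U.1 = f • CycCov.lpow L U.1 e N)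
    (hN : 0 < N) (W₀ : X.Opens) (hW₀' : Dense ((π ⁻¹ᵁ W₀ : Y.Opens) : Set Y))
    (hchart : ∀ (U : X.affineOpens), U.1 ≤ W₀ →
        ∀ (e : L.val.obj (op U.1)) (he : IsGen L U.1 e) (f : Γ(X, U.1))
          (hf : SecTwist.val s U.1 = f • lpow L U.1 e N), Function.Bijective (chart R U e he f hf))
    (g : Γ(X, U.1)) (hg0 : g ≠ 0) (c : Γ(Y, π ⁻¹ᵁ U.1)) (hc : (π.app U.1).hom g * c = 0) : c = 0 := by
  by_contra hne
  obtain ⟨y, hyc, hyW⟩ := hW₀'.inter_open_nonempty _ (Y.basicOpen c).isOpen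
    (Set.nonempty_iff_ne_empty.2 fun he => hne ((AlgebraicGeometry.basicOpen_eq_bot_iff c).1 (Opens.ext he)))
  have hyU : π.base y ∈ U.1 := Y.basicOpen_le c hyc
  obtain ⟨g', hg'le, hyg'⟩ := U.2.exists_basicOpen_le (V := W₀) ⟨π.base y, hyW⟩ hyU
  let V' : X.affineOpens := ⟨X.basicOpen g', U.2.basicOpen g'⟩
  have hV'U : V'.1 ≤ U.1 := X.basicOpen_le g'
  haveI : Nonempty ↥(V'.1 : Scheme.{u}) := ⟨⟨π.base y, hyg'⟩⟩
  haveI : IsDomain Γ(X, V'.1) := IsIntegral.component_integral V'.1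
  let ρ' := (X.presheaf.map (homOfLE hV'U).op).hom
  let σ' := (Y.presheaf.map (homOfLE (π.preimage_mono hV'U)).op).hom
  have hgen'' : ParaFLib.Gen V'.1 (L.presheaf.map (homOfLE hV'U).op e) := hgen.res hV'U
  have hbij' := hchart V' hg'le _ (isGen_of_gen hgen'') _ (val_res hV'U e f hf)
  obtain ⟨a', ha'⟩ := hbij'.2 (σ' c)
  have hnat : σ' ((π.app U.1).hom g) = (π.app V'.1).hom (ρ' g) :=
    (ConcreteCategory.congr_hom (π.naturality (homOfLE hV'U).op) g).symm
  have h3 : AdjoinRoot.of _ (ρ' g) * a' = 0 := by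
    refine hbij'.1 ?_
    rw [map_mul, ha', map_zero]
    show AdjoinRoot.lift _ _ _ (AdjoinRoot.of _ (ρ' g)) * σ' c = 0
    rw [AdjoinRoot.lift_of, ← hnat, ← map_mul, hc, map_zero]
  have h4 : a' = 0 := eq_zero_of_of_mul _ hN
    (fun h => hg0 (map_injective_of_isIntegral X (homOfLE hV'U) (h.trans (map_zero _).symm))) h3
  have h5 : σ' c = 0 := by rw [← ha', h4, map_zero]
  have h6 : y ∈ Y.basicOpen (σ' c) := by
    show y ∈ Y.basicOpen ((Y.presheaf.map (homOfLE (π.preimage_mono hV'U)).op).hom c)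
    rw [Scheme.basicOpen_res]
    exact ⟨hyg', hyc⟩
  rw [h5, Scheme.basicOpen_zero] at h6
  exact h6

set_option maxHeartbeats 4000000 in
/-- The chart is injective as soon as it is so over a nonempty basic open. -/
theorem injective_chart [IsIntegral X] [IsFinite π] (R : CycCov.Root L N s π)
    (U : X.affineOpens) (e : Γ(L, U.1)) (hgen : ParaFLib.Gen U.1 e)
    (f : Γ(X, U.1)) (hf : SecTwist.val s U.1 = f • CycCov.lpow L U.1 e N)
    (hN : 0 < N) (g : Γ(X, U.1)) (hg : (X.basicOpen g : Set X).Nonempty)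
    (hbij : ∀ he hf, Function.Bijective (CycCov.chart R ⟨X.basicOpen g, U.2.basicOpen g⟩
      (L.presheaf.map (homOfLE (X.basicOpen_le g)).op e) he ((X.presheaf.map (homOfLE (X.basicOpen_le g)).op).hom f) hf)) :
    Function.Injective (CycCov.chart R U e (isGen_of_gen hgen) f hf) := by
  set φ := CycCov.chart R U e (isGen_of_gen hgen) f hf with hφ
  let V : X.affineOpens := ⟨X.basicOpen g, U.2.basicOpen g⟩
  have hVU : V.1 ≤ U.1 := X.basicOpen_le g
  haveI : Nonempty ↥(V.1 : Scheme.{u}) := hg.to_subtype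
  let ρ := (X.presheaf.map (homOfLE hVU).op).hom
  let σ := (Y.presheaf.map (homOfLE (π.preimage_mono hVU)).op).hom
  have hρ : Function.Injective ρ := map_injective_of_isIntegral X (homOfLE hVU)
  have hgen' : ParaFLib.Gen V.1 (L.presheaf.map (homOfLE hVU).op e) := hgen.res hVU
  have hd : Polynomial.X ^ N - Polynomial.C (ρ f) ∣ (Polynomial.X ^ N - Polynomial.C f).map ρ := by
    rw [map_sub_eq]
  let m := AdjoinRoot.map ρ (Polynomial.X ^ N - Polynomial.C f) _ hd
  have hcomm : ∀ a, CycCov.chart R V _ (isGen_of_gen hgen') _ (val_res hVU e f hf) (m a) = σ (φ a) :=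
    fun a => RingHom.congr_fun (chart_res R hVU e (isGen_of_gen hgen) (isGen_of_gen hgen') f hf hd) a
  have hbij := hbij (isGen_of_gen hgen') (val_res hVU e f hf)
  rw [injective_iff_map_eq_zero]
  intro a ha
  have h1 : m a = 0 := hbij.1 (by rw [hcomm, ha, map_zero, map_zero])
  obtain ⟨p, rfl⟩ := AdjoinRoot.mk_surjective a
  rw [AdjoinRoot.mk_eq_zero]
  have h2 : m (AdjoinRoot.mk _ p) = AdjoinRoot.mk _ (p.map ρ) := by
    show AdjoinRoot.map ρ _ _ hd (AdjoinRoot.mk _ p) = _
    rw [AdjoinRoot.map, AdjoinRoot.lift_mk, ← Polynomial.eval₂_map, ← AdjoinRoot.algebraMap_eq,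
      ← Polynomial.aeval_def, AdjoinRoot.aeval_eq]
  rw [h2, AdjoinRoot.mk_eq_zero, ← map_sub_eq] at h1
  exact (Polynomial.map_dvd_map ρ hρ (monic_X_pow_sub_C f hN.ne')).1 h1

set_option maxHeartbeats 4000000 in
/-- After inverting `g` the chart is onto. -/
theorem exists_chart_eq [IsIntegral X] [IsFinite π] (R : CycCov.Root L N s π)
    (U : X.affineOpens) (e : Γ(L, U.1)) (hgen : ParaFLib.Gen U.1 e)
    (f : Γ(X, U.1)) (hf : SecTwist.val s U.1 = f • CycCov.lpow L U.1 e N)
    (g : Γ(X, U.1)) (hreg : ∀ c : Γ(Y, π ⁻¹ᵁ U.1), (π.app U.1).hom g * c = 0 → c = 0)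
    (hbij : ∀ he hf, Function.Bijective (CycCov.chart R ⟨X.basicOpen g, U.2.basicOpen g⟩
      (L.presheaf.map (homOfLE (X.basicOpen_le g)).op e) he ((X.presheaf.map (homOfLE (X.basicOpen_le g)).op).hom f) hf))
    (c : Γ(Y, π ⁻¹ᵁ U.1)) :
    ∃ (n : ℕ) (a : AdjoinRoot (Polynomial.X ^ N - Polynomial.C f)),
      CycCov.chart R U e (isGen_of_gen hgen) f hf a =
        CycCov.chart R U e (isGen_of_gen hgen) f hf (AdjoinRoot.of _ g) ^ n * c := by
  set φ := CycCov.chart R U e (isGen_of_gen hgen) f hf with hφ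
  let V : X.affineOpens := ⟨X.basicOpen g, U.2.basicOpen g⟩
  have hVU : V.1 ≤ U.1 := X.basicOpen_le g
  let ρ := (X.presheaf.map (homOfLE hVU).op).hom
  let σ := (Y.presheaf.map (homOfLE (π.preimage_mono hVU)).op).hom
  have hgen' : ParaFLib.Gen V.1 (L.presheaf.map (homOfLE hVU).op e) := hgen.res hVU
  have hd : Polynomial.X ^ N - Polynomial.C (ρ f) ∣ (Polynomial.X ^ N - Polynomial.C f).map ρ := by
    rw [map_sub_eq]
  let m := AdjoinRoot.map ρ (Polynomial.X ^ N - Polynomial.C f) _ hd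
  have hcomm : ∀ a, CycCov.chart R V _ (isGen_of_gen hgen') _ (val_res hVU e f hf) (m a) = σ (φ a) :=
    fun a => RingHom.congr_fun (chart_res R hVU e (isGen_of_gen hgen) (isGen_of_gen hgen') f hf hd) a
  have hbij := hbij (isGen_of_gen hgen') (val_res hVU e f hf)
  have hof : ∀ b, φ (AdjoinRoot.of _ b) = (π.app U.1).hom b := fun b => AdjoinRoot.lift_of _
  have hPi : IsAffineOpen (π ⁻¹ᵁ U.1) := U.2.preimage π
  obtain ⟨a', ha'⟩ := hbij.2 (σ c)
  obtain ⟨p', rfl⟩ := AdjoinRoot.mk_surjective a'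
  letI := ((X.presheaf.map (homOfLE hVU).op).hom).toAlgebra
  haveI : IsLocalization.Away g Γ(X, V.1) := U.2.isLocalization_basicOpen g
  obtain ⟨_, ⟨n, rfl⟩, hq⟩ := IsLocalization.integerNormalization_spec (Submonoid.powers g) p'
  refine ⟨n, AdjoinRoot.mk _ (IsLocalization.integerNormalization (Submonoid.powers g) p'), ?_⟩
  refine sub_eq_zero.1 ?_
  have key : σ (φ (AdjoinRoot.mk _ (IsLocalization.integerNormalization (Submonoid.powers g) p'))) =
      σ (φ (AdjoinRoot.of _ g) ^ n * c) := by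
    rw [map_mul, map_pow, ← hcomm, ← hcomm, ← ha', ← map_pow, ← map_mul]
    congr 1
    show AdjoinRoot.map ρ _ _ hd (AdjoinRoot.mk _ _) = (AdjoinRoot.map ρ _ _ hd (AdjoinRoot.of _ g)) ^ n * _
    rw [AdjoinRoot.map_of, AdjoinRoot.map, AdjoinRoot.lift_mk, ← Polynomial.eval₂_map, ← AdjoinRoot.algebraMap_eq,
      ← Polynomial.aeval_def, AdjoinRoot.aeval_eq, AdjoinRoot.algebraMap_eq]
    show AdjoinRoot.mk _ (Polynomial.map (algebraMap Γ(X, U.1) Γ(X, V.1)) _) =
      AdjoinRoot.of _ (algebraMap Γ(X, U.1) Γ(X, V.1) g) ^ n * _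
    rw [hq, ← AdjoinRoot.mk_C, ← map_pow, ← map_mul, ← map_pow, ← map_pow, Algebra.smul_def]
    rfl
  set d := φ (AdjoinRoot.mk _ (IsLocalization.integerNormalization (Submonoid.powers g) p')) -
    φ (AdjoinRoot.of _ g) ^ n * c with hdd
  have hres : σ d = 0 := by rw [map_sub, key, sub_self]
  have hb : Y.basicOpen ((π.app U.1).hom g) = π ⁻¹ᵁ V.1 := (Scheme.preimage_basicOpen π g).symm
  have hb' : (Y.presheaf.map (homOfLE (Y.basicOpen_le ((π.app U.1).hom g))).op).hom d = 0 := by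
    have := congrArg (Y.presheaf.map (homOfLE hb.le).op).hom hres
    rw [map_zero] at this
    rw [← this]
    show _ = (Y.presheaf.map (homOfLE hb.le).op).hom ((Y.presheaf.map (homOfLE (π.preimage_mono hVU)).op).hom d)
    rw [← CommRingCat.comp_apply, ← Functor.map_comp]
    rfl
  letI := ((Y.presheaf.map (homOfLE (Y.basicOpen_le ((π.app U.1).hom g))).op).hom).toAlgebra
  haveI : IsLocalization.Away ((π.app U.1).hom g) Γ(Y, Y.basicOpen ((π.app U.1).hom g)) :=
    hPi.isLocalization_basicOpen _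
  obtain ⟨⟨_, k, rfl⟩, hk⟩ :=
    (IsLocalization.map_eq_zero_iff (Submonoid.powers ((π.app U.1).hom g)) _ d).1 hb'
  clear_value d
  clear key hres hb' hdd
  induction k generalizing d with
  | zero => simpa using hk
  | succ k ih =>
    simp only [pow_succ, mul_assoc] at hk ih
    have := ih ((π.app U.1).hom g * d) hk
    exact hreg d this

set_option maxHeartbeats 4000000 in
/-- Away from the branch divisor the charts are bijective. -/
theorem bijective_chart [IsIntegral X] (hX : Pi1.IsNormalScheme X) [IsFinite π] [IsReduced Y]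
    (R : CycCov.Root L N s π) (hN : 0 < N)
    (W₀ : X.Opens) (hW₀ : Dense (W₀ : Set X)) (hW₀' : Dense ((π ⁻¹ᵁ W₀ : Y.Opens) : Set Y))
    (hchart : ∀ (U : X.affineOpens), U.1 ≤ W₀ →
        ∀ (e : L.val.obj (op U.1)) (he : IsGen L U.1 e) (f : Γ(X, U.1))
          (hf : SecTwist.val s U.1 = f • lpow L U.1 e N), Function.Bijective (chart R U e he f hf))
    (U : X.affineOpens) (hne : (U.1 : Set X).Nonempty) (hNu : IsUnit (N : Γ(X, U.1))) (e : Γ(L, U.1)) (hgen : ParaFLib.Gen U.1 e)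
    (f : Γ(X, U.1)) (hfu : IsUnit f) (hf : SecTwist.val s U.1 = f • CycCov.lpow L U.1 e N) :
    Function.Bijective (CycCov.chart R U e (isGen_of_gen hgen) f hf) := by
  set φ := CycCov.chart R U e (isGen_of_gen hgen) f hf with hφ
  haveI : Nonempty ↥U.1 := hne.to_subtype
  haveI : Nonempty ↥(U.1 : Scheme.{u}) := hne.to_subtype
  haveI : IsDomain Γ(X, U.1) := IsIntegral.component_integral U.1
  haveI : IsIntegrallyClosed Γ(X, U.1) := CurvQuotLib.isIntegrallyClosed_sections hX U.2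
  obtain ⟨x, hxU, hxW⟩ := hW₀.inter_open_nonempty _ U.1.isOpen hne
  obtain ⟨g, hgle, hxg⟩ := U.2.exists_basicOpen_le (V := W₀) ⟨x, hxW⟩ hxU
  let V : X.affineOpens := ⟨X.basicOpen g, U.2.basicOpen g⟩
  have hVU : V.1 ≤ U.1 := X.basicOpen_le g
  have hg0 : g ≠ 0 := by
    rintro rfl
    rw [Scheme.basicOpen_zero] at hxg
    exact hxg
  have hbV : ∀ he hf, Function.Bijective (CycCov.chart R V
      (L.presheaf.map (homOfLE hVU).op e) he ((X.presheaf.map (homOfLE hVU).op).hom f) hf) :=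
    fun he hf => hchart V hgle _ he _ hf
  have hinj := injective_chart R U e hgen f hf hN g ⟨x, hxg⟩ hbV
  have hof : ∀ b, φ (AdjoinRoot.of _ b) = (π.app U.1).hom b := fun b => AdjoinRoot.lift_of _
  have hint : (φ.comp (AdjoinRoot.of (Polynomial.X ^ N - Polynomial.C f))).IsIntegral := by
    rw [RingHom.ext hof (g := (π.app U.1).hom) (f := φ.comp (AdjoinRoot.of _))]
    exact (π.finite_app U.1 U.2).to_isIntegral
  have hreg := eq_zero_of_app_mul R U e hgen f hf hN W₀ hW₀' hchart g hg0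
  exact ⟨hinj, surjective_of_isIntegral N hN hNu f hfu φ hinj hint g hg0
    (fun c hc => hreg c (by rwa [hof] at hc)) (exists_chart_eq R U e hgen f hf g hreg hbV)⟩

end Groth.Agent.CycEtaleLib
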