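import Groth.Agent.CMFlatLib.Misc
import Groth.Agent.GorLib.Faltings
import Groth.Agent.RegLocLib.AffineDim
import Groth.Agent.PurityLib.BranchPoint
import Mathlib.RingTheory.Etale.Locus
import Mathlib.RingTheory.Unramified.Locus

/-!
# The root of a coordinate is a coordinate of the Kummer cover
-/

set_option autoImplicit false
set_option linter.style.haveILetI false
set_option maxHeartbeats 1000000
universe u

noncomputable section

namespace Groth.Agent.CycEtaleLib

/-- A derivation killing the constants and the coordinates of an étale chart vanishes. -/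
theorem derivation_eq_zero {k : Type u} [CommRing k] {ι : Type u} {B L : Type u} [CommRing B] [CommRing L]
    (ψ : MvPolynomial ι k →+* B) (hψ : ψ.Etale) (φ : B →+* L) {M : Type u} [AddCommGroup M] [Module L M]
    (δ : B →+ M) (hmul : ∀ a b, δ (a * b) = φ a • δ b + φ b • δ a)
    (hC : ∀ c, δ (ψ (MvPolynomial.C c)) = 0) (hX : ∀ j, δ (ψ (MvPolynomial.X j)) = 0) : δ = 0 := by
  letI := ψ.toAlgebra
  haveI : Algebra.Etale (MvPolynomial ι k) B := RingHom.etale_algebraMap.1 hψ
  letI : Module B M := Module.compHom M φ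
  letI : Module (MvPolynomial ι k) M := Module.compHom M (φ.comp ψ)
  haveI : IsScalarTower (MvPolynomial ι k) B M := IsScalarTower.of_algebraMap_smul fun p m => rfl
  have hP : ∀ p, δ (ψ p) = 0 := by
    intro p
    induction p using MvPolynomial.induction_on with
    | C c => exact hC c
    | add p q hp hq => rw [map_add, map_add, hp, hq, add_zero]
    | mul_X p j hp => rw [map_mul, hmul, hp, hX, smul_zero, smul_zero, add_zero]
  let D : Derivation (MvPolynomial ι k) B M :=
    Derivation.mk'
      { toFun := δ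
        map_add' := δ.map_add
        map_smul' := fun p b => by
          rw [Algebra.smul_def, hmul, show algebraMap (MvPolynomial ι k) B p = ψ p from rfl, hP, smul_zero, add_zero]
          rfl }
      (fun a b => hmul a b)
  refine AddMonoidHom.ext fun b => ?_
  have h := D.liftKaehlerDifferential_comp_D b
  rw [Subsingleton.elim (KaehlerDifferential.D (MvPolynomial ι k) B b) 0, map_zero] at h
  exact h.symm

theorem height_mvPolynomial {k : Type u} [Field k] {ι : Type u} [Fintype ι] (P : Ideal (MvPolynomial ι k))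
    (hP : P.IsMaximal) : P.height = Fintype.card ι := by
  let e := (MvPolynomial.renameEquiv k (Fintype.equivFin ι)).toRingEquiv
  haveI : (P.map e).IsMaximal := Ideal.map_isMaximal_of_equiv e
  rw [← e.height_map P, RegLocLib.height_eq_of_isMaximal_mvPolynomial k _ (P.map e) inferInstance]

theorem isMaximal_under {k P S : Type u} [Field k] [CommRing P] [CommRing S] [Algebra k S] [Algebra.FiniteType k S]
    (f : k →+* P) (φ : P →+* S) (h : φ.comp f = algebraMap k S) (m : Ideal S) [m.IsMaximal] :
    (m.comap φ).IsMaximal := by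
  letI := Ideal.Quotient.field m
  haveI : Module.Finite k (S ⧸ m) := finite_of_finite_type_of_isJacobsonRing k (S ⧸ m)
  have h1 : (((Ideal.Quotient.mk m).comp φ).comp f).IsIntegral := by
    rw [RingHom.comp_assoc, h]
    exact algebraMap_isIntegral_iff.2 inferInstance
  have h2 := Ideal.isMaximal_comap_of_isIntegral_of_isMaximal' ((Ideal.Quotient.mk m).comp φ)
    (RingHom.IsIntegral.tower_top f _ h1) (⊥ : Ideal (S ⧸ m))
  rwa [← Ideal.comap_comap, ← RingHom.ker_eq_comap_bot, Ideal.mk_ker] at h2

variable {k : Type u} [Field k] {ι : Type u} [Fintype ι] [DecidableEq ι] {B S : Type u} [CommRing B] [CommRing S]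
  [Algebra B S] (ψ : MvPolynomial ι k →+* B) (i : ι) (x : S)

/-- The chart on the cover: the distinguished coordinate is replaced by the root `x`. -/
def rootMap : MvPolynomial ι k →+* S :=
  MvPolynomial.eval₂Hom ((algebraMap B S).comp (ψ.comp MvPolynomial.C))
    (Function.update (fun j => algebraMap B S (ψ (MvPolynomial.X j))) i x)

theorem rootMap_C (c : k) : rootMap ψ i x (MvPolynomial.C c) = algebraMap B S (ψ (MvPolynomial.C c)) :=
  MvPolynomial.eval₂Hom_C _ _ _

theorem rootMap_X_self : rootMap ψ i x (MvPolynomial.X i) = x :=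
  (MvPolynomial.eval₂Hom_X' _ _ _).trans (Function.update_self _ _ _)

theorem rootMap_X {j : ι} (h : j ≠ i) : rootMap ψ i x (MvPolynomial.X j) = algebraMap B S (ψ (MvPolynomial.X j)) :=
  (MvPolynomial.eval₂Hom_X' _ _ _).trans (Function.update_of_ne h _ _)

variable {ψ i x}

theorem subsingleton_kaehler (hψ : ψ.Etale) (ε z : S) (d n : ℕ) (hn : n ≠ 0)
    (hg : algebraMap B S (ψ (MvPolynomial.X i)) = ε * x ^ n) (hz : IsUnit z) (hd : IsUnit (d : B))
    (u : B) (hzd : z ^ d = algebraMap B S u) (hadj : Algebra.adjoin B ({x, z} : Set S) = ⊤)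
    (m : Ideal S) [m.IsPrime] (hxm : x ∈ m) :
    letI := (rootMap ψ i x).toAlgebra
    Algebra.IsUnramifiedAt (MvPolynomial ι k) m := by
  letI := (rootMap ψ i x).toAlgebra
  let P := MvPolynomial ι k
  let L := Localization.AtPrime m
  let φ : B →+* L := (algebraMap S L).comp (algebraMap B S)
  let D := KaehlerDifferential.D P L
  let δ₀ : B →+ Ω[L⁄P] := (D : L →ₗ[P] Ω[L⁄P]).toAddMonoidHom.comp φ.toAddMonoidHom
  have hδ : ∀ b, δ₀ b = D (φ b) := fun _ => rfl
  have hkill : ∀ p : P, D (algebraMap S L (rootMap ψ i x p)) = 0 := fun p => by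
    have : algebraMap S L (rootMap ψ i x p) = algebraMap P L p := (IsScalarTower.algebraMap_apply P S L p).symm
    rw [this]; exact D.map_algebraMap p
  let N : Submodule L Ω[L⁄P] := Submodule.span L {δ₀ (ψ (MvPolynomial.X i))}
  have hB : ∀ b, δ₀ b ∈ N := by
    have h := derivation_eq_zero ψ hψ φ (M := Ω[L⁄P] ⧸ N) ((N.mkQ.toAddMonoidHom).comp δ₀)
      (fun a b => by
        show N.mkQ (δ₀ (a * b)) = φ a • N.mkQ (δ₀ b) + φ b • N.mkQ (δ₀ a)
        rw [hδ, hδ, hδ, map_mul φ, D.leibniz, map_add, map_smul, map_smul])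
      (fun c => by
        show N.mkQ (δ₀ _) = 0
        rw [hδ, show φ (ψ (MvPolynomial.C c)) = algebraMap S L (rootMap ψ i x (MvPolynomial.C c)) by
          rw [rootMap_C]; rfl, hkill, map_zero])
      (fun j => by
        show N.mkQ (δ₀ _) = 0
        rw [Submodule.mkQ_apply, Submodule.Quotient.mk_eq_zero]
        by_cases hj : j = i
        · subst hj; exact Submodule.subset_span rfl
        · rw [hδ, show φ (ψ (MvPolynomial.X j)) = algebraMap S L (rootMap ψ i x (MvPolynomial.X j)) by
            rw [rootMap_X ψ i x hj]; rfl, hkill]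
          exact N.zero_mem)
    intro b
    have hb := DFunLike.congr_fun h b
    exact (Submodule.Quotient.mk_eq_zero N).1 hb
  have hzN : D (algebraMap S L z) ∈ N := by
    have h1 : D (algebraMap S L z ^ d) ∈ N := by
      rw [← map_pow, hzd]; exact hB u
    rw [D.leibniz_pow, ← Nat.cast_smul_eq_nsmul L, smul_smul] at h1
    have hu : IsUnit ((d : L) * algebraMap S L z ^ (d - 1)) := by
      refine IsUnit.mul ?_ ((hz.map _).pow _)
      simpa using hd.map φ
    exact (Submodule.smul_mem_iff_of_isUnit _ hu).1 h1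
  have hS : ∀ s : S, D (algebraMap S L s) ∈ N := by
    intro s
    have hs : s ∈ Algebra.adjoin B ({x, z} : Set S) := hadj ▸ trivial
    induction hs using Algebra.adjoin_induction with
    | mem y hy =>
      rcases hy with rfl | rfl
      · rw [← rootMap_X_self ψ i y, hkill]; exact N.zero_mem
      · exact hzN
    | algebraMap b => exact hB b
    | add a b _ _ ha hb => rw [map_add, map_add]; exact N.add_mem ha hb
    | mul a b _ _ ha hb =>
      rw [map_mul, D.leibniz]
      exact N.add_mem (N.smul_mem _ hb) (N.smul_mem _ ha)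
  obtain ⟨c, hc⟩ := Submodule.mem_span_singleton.1 (hS ε)
  have hDx : D (algebraMap S L x) = 0 := by rw [← rootMap_X_self ψ i x, hkill]
  have hg0 : δ₀ (ψ (MvPolynomial.X i)) = 0 := by
    have h1 : δ₀ (ψ (MvPolynomial.X i)) = (algebraMap S L x ^ n * c) • δ₀ (ψ (MvPolynomial.X i)) := by
      conv_lhs => rw [hδ, show φ (ψ (MvPolynomial.X i)) = algebraMap S L ε * algebraMap S L x ^ n by
        rw [← map_pow, ← map_mul, ← hg]; rfl, D.leibniz, D.leibniz_pow, hDx, smul_zero, smul_zero, smul_zero,
        zero_add, ← hc, smul_smul]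
    have h2 : (1 - algebraMap S L x ^ n * c) • δ₀ (ψ (MvPolynomial.X i)) = 0 := by
      rw [sub_smul, one_smul, ← h1, sub_self]
    have hmem : algebraMap S L x ^ n * c ∈ IsLocalRing.maximalIdeal L :=
      Ideal.mul_mem_right _ _ (Ideal.pow_mem_of_mem _ ((IsLocalization.AtPrime.to_map_mem_maximal_iff L m x).2 hxm)
        _ (Nat.pos_of_ne_zero hn))
    exact (IsLocalRing.isUnit_one_sub_self_of_mem_nonunits _ hmem).smul_eq_zero.1 h2
  have hN : N = ⊥ := Submodule.span_singleton_eq_bot.2 hg0
  have hD0 : ∀ s : S, D (algebraMap S L s) = 0 := fun s => by simpa [hN] using hS s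
  have hall : ∀ l : L, D l = 0 := by
    intro l
    obtain ⟨⟨a, t⟩, hl⟩ := IsLocalization.surj m.primeCompl l
    have h := congrArg D hl
    rw [D.leibniz, hD0, hD0, smul_zero, zero_add] at h
    exact (IsLocalization.map_units L t).smul_eq_zero.1 h
  refine ⟨⟨fun a b => ?_⟩⟩
  have htop : (⊤ : Submodule L Ω[L⁄P]) = ⊥ := by
    rw [← KaehlerDifferential.span_range_derivation, Submodule.span_eq_bot]
    rintro _ ⟨l, rfl⟩
    exact hall l
  exact ((Submodule.eq_bot_iff _).1 htop a trivial).trans
    ((Submodule.eq_bot_iff _).1 htop b trivial).symm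

/-- The root chart is étale at the primes containing the root. -/
theorem isEtaleAt_rootMap (hψ : ψ.Etale) [IsRegularRing S] [Algebra.IsIntegral B S] [Module.Flat B S]
    [Algebra k S] [Algebra.FiniteType k S]
    (hk : ∀ c, algebraMap k S c = algebraMap B S (ψ (MvPolynomial.C c)))
    (ε z : S) (d n : ℕ) (hn : n ≠ 0)
    (hg : algebraMap B S (ψ (MvPolynomial.X i)) = ε * x ^ n) (hz : IsUnit z) (hd : IsUnit (d : B))
    (u : B) (hzd : z ^ d = algebraMap B S u) (hadj : Algebra.adjoin B ({x, z} : Set S) = ⊤)
    (m : Ideal S) [m.IsMaximal] (hxm : x ∈ m) :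
    letI := (rootMap ψ i x).toAlgebra
    Algebra.IsEtaleAt (MvPolynomial ι k) m := by
  letI := (rootMap ψ i x).toAlgebra
  haveI : IsNoetherianRing S := Algebra.FiniteType.isNoetherianRing k S
  haveI : Algebra.FiniteType (MvPolynomial ι k) S := by
    haveI : IsScalarTower k (MvPolynomial ι k) S :=
      IsScalarTower.of_algebraMap_eq fun c => (hk c).trans (rootMap_C ψ i x c).symm
    exact Algebra.FiniteType.of_restrictScalars_finiteType k (MvPolynomial ι k) S
  haveI := subsingleton_kaehler hψ ε z d n hn hg hz hd u hzd hadj m hxm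
  haveI : IsRegularLocalRing (Localization.AtPrime m) := IsRegularRing.isRegularLocalRing_localization m
  haveI : LocCoh.IsCohenMacaulayRing S := GorLib.cohenMacaulayRing_of_regular S
  haveI : LocCoh.IsCohenMacaulayLocalRing (Localization.AtPrime m) :=
    LocCoh.IsCohenMacaulayRing.isCohenMacaulayLocalRing_localization m
  haveI hp : (m.under (MvPolynomial ι k)).IsMaximal :=
    isMaximal_under (k := k) (P := MvPolynomial ι k) (S := S) MvPolynomial.C (rootMap ψ i x) (RingHom.ext fun c => (rootMap_C ψ i x c).trans (hk c).symm) m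
  haveI : IsRegularLocalRing (Localization.AtPrime (m.under (MvPolynomial ι k))) :=
    IsRegularRing.isRegularLocalRing_localization _
  haveI : Algebra.FinitePresentation (MvPolynomial ι k) S := Algebra.FinitePresentation.of_finiteType.1 inferInstance
  have hdim : ringKrullDim (Localization.AtPrime (m.under (MvPolynomial ι k))) =
      ringKrullDim (Localization.AtPrime m) := by
    letI := ψ.toAlgebra
    haveI : Algebra.Etale (MvPolynomial ι k) B := RingHom.etale_algebraMap.1 hψ
    haveI : IsNoetherianRing B := Algebra.FiniteType.isNoetherianRing (MvPolynomial ι k) B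
    let m' := m.comap (algebraMap B S)
    haveI : m'.IsMaximal := Ideal.isMaximal_comap_of_isIntegral_of_isMaximal m
    haveI : m.LiesOver m' := ⟨rfl⟩
    haveI hp' : (m'.comap ψ).IsMaximal := by
      have h := isMaximal_under (k := k) (P := MvPolynomial ι k) (S := S) MvPolynomial.C ((algebraMap B S).comp ψ) (RingHom.ext fun c => (hk c).symm) m
      rwa [← Ideal.comap_comap] at h
    haveI : m'.LiesOver (m'.comap ψ) := ⟨rfl⟩
    rw [IsLocalization.AtPrime.ringKrullDim_eq_height (m.under (MvPolynomial ι k)),
      IsLocalization.AtPrime.ringKrullDim_eq_height m, RegLocLib.height_eq_of_liesOver_of_isIntegral m' m,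
      height_mvPolynomial _ hp, ← IsLocalization.AtPrime.ringKrullDim_eq_height m' (Localization.AtPrime m'),
      (PurityLib.dim_regular_of_etale (R := MvPolynomial ι k) (S := B) (m'.comap ψ) m').1, IsLocalization.AtPrime.ringKrullDim_eq_height (m'.comap ψ),
      height_mvPolynomial _ hp']
  haveI := CMFlatLib.flat_of_unramified_cm (m.under (MvPolynomial ι k)) m hdim
  exact CMFlatLib.isEtaleAt_of_unramified_flat m

end Groth.Agent.CycEtaleLib
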