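import Groth.Agent.CycEtaleLib.Results
import Groth.Agent.CycEtaleLib.RootChart

/-!
# The reduced preimage of the branch divisor is a normal crossing divisor
-/

set_option autoImplicit false
set_option backward.isDefEq.respectTransparency false
set_option backward.isDefEq.respectTransparency.types false
set_option linter.style.haveILetI false
set_option maxHeartbeats 2000000
universe u

open CategoryTheory AlgebraicGeometry Opposite TopologicalSpace

noncomputable section

namespace Groth.Agent.CycEtaleLib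

variable {X : Scheme.{u}} {k : Type u} [Field k]

/-- The structure map of the constants on an open. -/
def constHom (f : X ⟶ Spec (CommRingCat.of k)) (U : X.Opens) : k →+* Γ(X, U) :=
  ((Scheme.ΓSpecIso (CommRingCat.of k)).inv ≫ f.appTop ≫ X.presheaf.map (homOfLE (le_top : U ≤ ⊤)).op).hom

theorem constHom_res (f : X ⟶ Spec (CommRingCat.of k)) {U V : X.Opens} (h : V ≤ U) (c : k) :
    (X.presheaf.map (homOfLE h).op).hom (constHom f U c) = constHom f V c := by
  have e : ((Scheme.ΓSpecIso (CommRingCat.of k)).inv ≫ f.appTop ≫ X.presheaf.map (homOfLE (le_top : U ≤ ⊤)).op) ≫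
      X.presheaf.map (homOfLE h).op =
      (Scheme.ΓSpecIso (CommRingCat.of k)).inv ≫ f.appTop ≫ X.presheaf.map (homOfLE (le_top : V ≤ ⊤)).op := by
    rw [Category.assoc, Category.assoc, ← Functor.map_comp]
    rfl
  exact RingHom.congr_fun (congrArg CommRingCat.Hom.hom e) c

theorem constHom_preimage {Y : Scheme.{u}} (π : Y ⟶ X) (f : X ⟶ Spec (CommRingCat.of k)) (U : X.Opens) (c : k) :
    (π.app U).hom (constHom f U c) = constHom (π ≫ f) (π ⁻¹ᵁ U) c := by
  have e : ((Scheme.ΓSpecIso (CommRingCat.of k)).inv ≫ f.appTop ≫ X.presheaf.map (homOfLE (le_top : U ≤ ⊤)).op) ≫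
      π.app U = (Scheme.ΓSpecIso (CommRingCat.of k)).inv ≫ (π ≫ f).appTop ≫
        Y.presheaf.map (homOfLE (le_top : π ⁻¹ᵁ U ≤ ⊤)).op := by
    rw [Category.assoc, Category.assoc, Scheme.Hom.naturality, Scheme.Hom.comp_appTop, Category.assoc]
    rfl
  exact RingHom.congr_fun (congrArg CommRingCat.Hom.hom e) c

theorem appTop_C (U : X.Opens) {n : ℕ} (f : X ⟶ Spec (CommRingCat.of k))
    (g : (U : Scheme.{u}) ⟶ Spec (CommRingCat.of (MvPolynomial (ULift.{u} (Fin n)) k)))
    (hg : g ≫ Spec.map (CommRingCat.ofHom MvPolynomial.C) = U.ι ≫ f) (c : k) :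
    U.topIso.hom (g.appTop ((Scheme.ΓSpecIso _).inv (MvPolynomial.C c))) = constHom f U c := by
  have h := congrArg (fun q => U.topIso.hom ((Scheme.Hom.appTop q) ((Scheme.ΓSpecIso (CommRingCat.of k)).inv c))) hg
  simp only [Scheme.Hom.comp_appTop, CommRingCat.comp_apply] at h
  rw [← CommRingCat.comp_apply (Scheme.ΓSpecIso (CommRingCat.of k)).inv
    (Spec.map (CommRingCat.ofHom MvPolynomial.C)).appTop, ← Scheme.ΓSpecIso_inv_naturality, CommRingCat.comp_apply] at h
  refine h.trans ?_
  simp only [constHom, ← CommRingCat.comp_apply, Category.assoc, Scheme.Opens.topIso_hom, Scheme.Opens.ι_appTop]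
  simp only [← Functor.map_comp]
  rfl

/-- An étale chart given by functions restricts to an étale ring map on every affine open of the chart. -/
theorem exists_coord_hom (f : X ⟶ Spec (CommRingCat.of k)) (W : X.Opens) {n : ℕ}
    (v : ULift.{u} (Fin n) → Γ(W, ⊤)) (hv : Etale (AffineSpace.homOfVector (W.ι ≫ f) v))
    (U : X.affineOpens) (h : U.1 ≤ W) :
    ∃ ψ : MvPolynomial (ULift.{u} (Fin n)) k →+* Γ(X, U.1), ψ.Etale ∧
      (∀ c, ψ (MvPolynomial.C c) = constHom f U.1 c) ∧ ∀ i, ψ (MvPolynomial.X i) = LogNCD.sectOn W h (v i) := by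
  haveI := hv
  let e := AffineSpace.SpecIso (ULift.{u} (Fin n)) (CommRingCat.of k)
  let q : (U.1 : Scheme.{u}) ⟶ Spec (CommRingCat.of (MvPolynomial (ULift.{u} (Fin n)) k)) :=
    X.homOfLE h ≫ AffineSpace.homOfVector (W.ι ≫ f) v ≫ e.hom
  haveI : IsAffine (U.1 : Scheme.{u}) := U.2
  have hq : q.appTop.hom.Etale := (HasRingHomProperty.iff_of_isAffine (P := @Etale)).1 inferInstance
  refine ⟨((Scheme.ΓSpecIso _).inv ≫ q.appTop ≫ U.1.topIso.hom).hom, ?_, ?_, fun i => ?_⟩
  · have h1 : ((Scheme.ΓSpecIso _).inv ≫ q.appTop).hom.Etale :=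
      RingHom.Etale.respectsIso.2 _ (Scheme.ΓSpecIso _).symm.commRingCatIsoToRingEquiv hq
    exact RingHom.Etale.respectsIso.1 _ U.1.topIso.commRingCatIsoToRingEquiv h1
  · intro c
    refine appTop_C U.1 f q ?_ c
    show (X.homOfLE h ≫ AffineSpace.homOfVector (W.ι ≫ f) v ≫ e.hom) ≫ Spec.map (CommRingCat.ofHom MvPolynomial.C) = _
    have hov : e.hom ≫ Spec.map (CommRingCat.ofHom MvPolynomial.C) = _ :=
      ((Iso.inv_comp_eq e).1 (AffineSpace.SpecIso_inv_over _)).symm
    rw [Category.assoc, Category.assoc]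
    erw [hov]
    rw [AffineSpace.homOfVector_over, Scheme.homOfLE_ι_assoc]
  · have hc : e.hom.appTop ((Scheme.ΓSpecIso _).inv (MvPolynomial.X i)) = AffineSpace.coord _ i := by
      rw [← AffineSpace.SpecIso_inv_appTop_coord, ← CommRingCat.comp_apply, ← Scheme.Hom.comp_appTop]
      simp [e]
    show U.1.topIso.hom (q.appTop ((Scheme.ΓSpecIso _).inv (MvPolynomial.X i))) = _
    simp only [q, Scheme.Hom.comp_appTop, CommRingCat.comp_apply]
    rw [hc, AffineSpace.homOfVector_appTop_coord, LogNCD.sectOn]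
    simp only [Scheme.Opens.topIso_hom, Scheme.homOfLE_appTop]
    simp only [← CommRingCat.comp_apply, ← Functor.map_comp]
    rfl

/-- Conversely an étale ring map gives an étale chart. -/
theorem etale_homOfVector (f : X ⟶ Spec (CommRingCat.of k)) (U : X.affineOpens) {n : ℕ}
    (ψ : MvPolynomial (ULift.{u} (Fin n)) k →+* Γ(X, U.1)) (hψ : ψ.Etale)
    (hC : ∀ c, ψ (MvPolynomial.C c) = constHom f U.1 c) :
    Etale (AffineSpace.homOfVector (U.1.ι ≫ f) fun i => U.1.topIso.inv (ψ (MvPolynomial.X i))) := by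
  let v := fun i => U.1.topIso.inv (ψ (MvPolynomial.X i))
  let e := AffineSpace.SpecIso (ULift.{u} (Fin n)) (CommRingCat.of k)
  let q : (U.1 : Scheme.{u}) ⟶ Spec (CommRingCat.of (MvPolynomial (ULift.{u} (Fin n)) k)) :=
    AffineSpace.homOfVector (U.1.ι ≫ f) v ≫ e.hom
  haveI : IsAffine (U.1 : Scheme.{u}) := U.2
  have hval : ((Scheme.ΓSpecIso _).inv ≫ q.appTop ≫ U.1.topIso.hom).hom = ψ := by
    refine MvPolynomial.ringHom_ext (fun c => ?_) fun i => ?_
    · refine (appTop_C U.1 f q ?_ c).trans (hC c).symm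
      show (AffineSpace.homOfVector (U.1.ι ≫ f) v ≫ e.hom) ≫ Spec.map (CommRingCat.ofHom MvPolynomial.C) = _
      have hov : e.hom ≫ Spec.map (CommRingCat.ofHom MvPolynomial.C) = _ :=
        ((Iso.inv_comp_eq e).1 (AffineSpace.SpecIso_inv_over _)).symm
      rw [Category.assoc]
      erw [hov]
      rw [AffineSpace.homOfVector_over]
    · have hc : e.hom.appTop ((Scheme.ΓSpecIso _).inv (MvPolynomial.X i)) = AffineSpace.coord _ i := by
        rw [← AffineSpace.SpecIso_inv_appTop_coord, ← CommRingCat.comp_apply, ← Scheme.Hom.comp_appTop]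
        simp [e]
      show U.1.topIso.hom (q.appTop ((Scheme.ΓSpecIso _).inv (MvPolynomial.X i))) = _
      simp only [q, Scheme.Hom.comp_appTop, CommRingCat.comp_apply]
      rw [hc, AffineSpace.homOfVector_appTop_coord]
      show U.1.topIso.hom (U.1.topIso.inv _) = _
      rw [← CommRingCat.comp_apply, Iso.inv_hom_id, CommRingCat.id_apply]
  have hq : q.appTop.hom.Etale := by
    have heq : q.appTop = (Scheme.ΓSpecIso _).hom ≫ CommRingCat.ofHom ψ ≫ U.1.topIso.inv := by
      rw [← hval]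
      simp only [CommRingCat.ofHom_hom, Category.assoc, Iso.hom_inv_id_assoc]
      erw [Iso.hom_inv_id, Category.comp_id]
    rw [heq]
    exact RingHom.Etale.respectsIso.2 _ (Scheme.ΓSpecIso _).commRingCatIsoToRingEquiv
      (RingHom.Etale.respectsIso.1 _ U.1.topIso.symm.commRingCatIsoToRingEquiv hψ)
  haveI : Etale q := (HasRingHomProperty.iff_of_isAffine (P := @Etale)).2 hq
  have : AffineSpace.homOfVector (U.1.ι ≫ f) v = q ≫ e.inv := by simp [q, e]
  show Etale (AffineSpace.homOfVector (U.1.ι ≫ f) v)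
  rw [this]
  infer_instance

theorem ideal_eq_span_of_local (I : X.IdealSheafData) (V : X.affineOpens) (O : X.Opens) (hVO : V.1 ≤ O)
    (s : Γ(X, O))
    (h : ∀ y ∈ V.1, ∃ (V' : X.affineOpens) (h' : V'.1 ≤ O), y ∈ V'.1 ∧
      I.ideal V' = Ideal.span {(X.presheaf.map (homOfLE h').op).hom s}) :
    I.ideal V = Ideal.span {(X.presheaf.map (homOfLE hVO).op).hom s} := by
  refine Ideal.eq_of_localization_maximal fun P hP => ?_
  obtain ⟨x, hx⟩ := isLocalization_stalk_prime V.2 P
  letI := TopCat.Presheaf.algebra_section_stalk X.presheaf x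
  haveI : IsLocalization.AtPrime (X.presheaf.stalk x.1) P := by
    have h := V.2.isLocalization_stalk x
    simpa only [hx] using h
  obtain ⟨V', h', hxV', he⟩ := h x.1 x.2
  have key : (I.ideal V).map (algebraMap Γ(X, V.1) (X.presheaf.stalk x.1)) =
      (Ideal.span {(X.presheaf.map (homOfLE hVO).op).hom s}).map (algebraMap Γ(X, V.1) (X.presheaf.stalk x.1)) := by
    show (I.ideal V).map (X.presheaf.germ V.1 x.1 x.2).hom = Ideal.map (X.presheaf.germ V.1 x.1 x.2).hom _
    rw [← IdealStalkLib.stalkIdeal_eq I V x.1 x.2, IdealStalkLib.stalkIdeal_eq I V' x.1 hxV', he,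
      Ideal.map_span, Ideal.map_span, Set.image_singleton, Set.image_singleton,
      TopCat.Presheaf.germ_res_apply, TopCat.Presheaf.germ_res_apply]
  let e := IsLocalization.algEquiv P.primeCompl (X.presheaf.stalk x.1) (Localization.AtPrime P)
  have he' : ((e : X.presheaf.stalk x.1 →ₐ[Γ(X, V.1)] Localization.AtPrime P) : X.presheaf.stalk x.1 →+* _).comp
      (algebraMap Γ(X, V.1) (X.presheaf.stalk x.1)) = algebraMap Γ(X, V.1) (Localization.AtPrime P) :=
    RingHom.ext fun c => e.commutes c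
  rw [← he', ← Ideal.map_map, ← Ideal.map_map, key]

theorem isRadical_span_coord {n : ℕ} {B : Type u} [CommRing B]
    (ψ : MvPolynomial (ULift.{u} (Fin n)) k →+* B) (hψ : ψ.Etale) (i : ULift.{u} (Fin n)) :
    (Ideal.span {ψ (MvPolynomial.X i)}).IsRadical := by
  cases subsingleton_or_nontrivial B
  · intro a _; rw [Subsingleton.elim a 0]; exact Ideal.zero_mem _
  haveI := (coord_quotient ψ hψ i).2
  haveI := isReduced_of_isRegularRing (B ⧸ Ideal.span {ψ (MvPolynomial.X i)})
  rintro a ⟨m, hm⟩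
  rw [← Ideal.Quotient.eq_zero_iff_mem] at hm ⊢
  rw [map_pow] at hm
  exact IsNilpotent.eq_zero ⟨m, hm⟩

end Groth.Agent.CycEtaleLib
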