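import Groth.Agent.CycEtaleLib.NCD

/-!
# Normal crossings of the reduced preimage
-/

set_option autoImplicit false
set_option backward.isDefEq.respectTransparency false
set_option backward.isDefEq.respectTransparency.types false
set_option linter.style.haveILetI false
set_option maxHeartbeats 2000000
universe u

open CategoryTheory AlgebraicGeometry Opposite TopologicalSpace CycCov

noncomputable section

namespace Groth.Agent.CycEtaleLib

variable {X Y : Scheme.{u}} {k : Type u} [Field k]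

theorem etale_app_of_etale_morphismRestrict (π : Y ⟶ X) {U : X.Opens} (hU : IsAffineOpen U)
    (hV : IsAffineOpen (π ⁻¹ᵁ U)) (h : Etale (π ∣_ U)) : (π.app U).hom.Etale := by
  haveI := h
  have he : hV.fromSpec = hV.isoSpec.inv ≫ (π ⁻¹ᵁ U).ι := rfl
  have hsq : hV.fromSpec ≫ π = Spec.map (π.app U) ≫ hU.fromSpec := by
    rw [Scheme.Hom.app_eq_appLE]
    exact (IsAffineOpen.SpecMap_appLE_fromSpec π hU hV le_rfl).symm
  haveI h2 : Etale (Spec.map (π.app U) ≫ hU.fromSpec) := by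
    rw [← hsq, he, Category.assoc, ← morphismRestrict_ι]; infer_instance
  exact (HasRingHomProperty.Spec_iff (P := @Etale)).1
    (MorphismProperty.of_postcomp (W := @Etale) (W' := @Etale) _ hU.fromSpec inferInstance h2)

theorem mem_primeIdealOf_iff {U : Y.Opens} (hU : IsAffineOpen U) (y : U) (h : Γ(Y, U)) :
    h ∈ (hU.primeIdealOf y).asIdeal ↔ y.1 ∉ Y.basicOpen h := by
  have h1 : (hU.primeIdealOf y) ∈ hU.fromSpec ⁻¹ᵁ Y.basicOpen h ↔ y.1 ∈ Y.basicOpen h := by
    show hU.fromSpec _ ∈ Y.basicOpen h ↔ _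
    rw [hU.fromSpec_primeIdealOf]
  rw [hU.fromSpec_preimage_basicOpen] at h1
  rw [← h1]
  exact (not_not).symm

theorem exists_root_chart {n : ℕ} {B S : Type u} [CommRing B] [CommRing S] [Algebra B S] [IsRegularRing S]
    [Module.Finite B S] [Module.Flat B S]
    (ψ : MvPolynomial (ULift.{u} (Fin n)) k →+* B) (hψ : ψ.Etale) (i : ULift.{u} (Fin n)) (z ε t : S) (d m : ℕ)
    (hm : m ≠ 0) (hg : algebraMap B S (ψ (MvPolynomial.X i)) = ε * z ^ m) (ht : IsUnit t) (hd : IsUnit (d : B))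
    (u : B) (htd : t ^ d = algebraMap B S u) (hadj : Algebra.adjoin B ({z, t} : Set S) = ⊤)
    (q : Ideal S) [q.IsPrime] (hzq : z ∈ q) :
    ∃ h ∉ q, letI := (rootMap ψ i z).toAlgebra
      Algebra.Etale (MvPolynomial (ULift.{u} (Fin n)) k) (Localization.Away h) := by
  letI : Algebra k S := ((algebraMap B S).comp (ψ.comp MvPolynomial.C)).toAlgebra
  haveI : Algebra.FiniteType k S := by
    have h0 : ψ.FiniteType := by
      letI := ψ.toAlgebra
      haveI : Algebra.Etale (MvPolynomial (ULift.{u} (Fin n)) k) B := RingHom.etale_algebraMap.1 hψ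
      exact RingHom.finiteType_algebraMap.2 inferInstance
    have h1 : (ψ.comp MvPolynomial.C).FiniteType :=
      h0.comp (RingHom.finiteType_algebraMap.2 (inferInstance : Algebra.FiniteType k (MvPolynomial (ULift.{u} (Fin n)) k)))
    exact RingHom.finiteType_algebraMap.1 ((RingHom.finiteType_algebraMap.2
      (inferInstance : Algebra.FiniteType B S)).comp h1)
  obtain ⟨M, hM, hle⟩ := Ideal.exists_le_maximal q (Ideal.IsPrime.ne_top ‹_›)
  haveI := hM
  letI := (rootMap ψ i z).toAlgebra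
  haveI : Algebra.FiniteType (MvPolynomial (ULift.{u} (Fin n)) k) S := by
    haveI : IsScalarTower k (MvPolynomial (ULift.{u} (Fin n)) k) S :=
      IsScalarTower.of_algebraMap_eq fun c => (rootMap_C ψ i z c).symm
    exact Algebra.FiniteType.of_restrictScalars_finiteType k (MvPolynomial (ULift.{u} (Fin n)) k) S
  haveI : IsNoetherianRing S := Algebra.FiniteType.isNoetherianRing k S
  haveI : Algebra.FinitePresentation (MvPolynomial (ULift.{u} (Fin n)) k) S :=
    Algebra.FinitePresentation.of_finiteType.1 inferInstance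
  have hM' : (⟨M, hM.isPrime⟩ : PrimeSpectrum S) ∈ Algebra.etaleLocus (MvPolynomial (ULift.{u} (Fin n)) k) S :=
    isEtaleAt_rootMap hψ (fun c => rfl) ε t d m hm hg ht hd u htd hadj M (hle hzq)
  have hq : (⟨q, inferInstance⟩ : PrimeSpectrum S) ∈ Algebra.etaleLocus (MvPolynomial (ULift.{u} (Fin n)) k) S :=
    ((PrimeSpectrum.le_iff_specializes _ _).1 (show (⟨q, inferInstance⟩ : PrimeSpectrum S) ≤ ⟨M, hM.isPrime⟩ from hle)).mem_open
      Algebra.isOpen_etaleLocus hM'
  obtain ⟨_, ⟨h, rfl⟩, hqh, hsub⟩ := PrimeSpectrum.isTopologicalBasis_basic_opens.exists_subset_of_mem_open hq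
    Algebra.isOpen_etaleLocus
  exact ⟨h, hqh, Algebra.basicOpen_subset_etaleLocus_iff_etale.1 hsub⟩

theorem sectOn_topIso (V : Y.Opens) {W : Y.Opens} (hW : W ≤ V) (a : Γ(Y, V)) :
    LogNCD.sectOn V hW (V.topIso.inv a) = (Y.presheaf.map (homOfLE hW).op).hom a := by
  rw [LogNCD.sectOn, ← CommRingCat.comp_apply V.topIso.inv, Iso.inv_hom_id, CommRingCat.id_apply]

variable {L : X.Modules} {N : ℕ} {s : Coh.structureModule X ⟶ CohB1.tensorPow L N} {π : Y ⟶ X}

theorem isNCD_preimage (f : X ⟶ Spec (CommRingCat.of k)) [Smooth f] [IsIntegral X]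
    (hL : PicF.IsInvertible L) (hN : 0 < N) (hNk : (N : k) ≠ 0)
    {r : ℕ} (D : Fin r → X.IdealSheafData) (α : Fin r → ℕ) (hD : LogNCD.IsNCD D f)
    (hs : CycCov.IsZeroDiv (CohB1.tensorPow L N) s (CycCov.divIdeal D α))
    (R : CycCov.Root L N s π) (hR : CycCov.IsCover R)
    (hdisj : ∀ (x : X) (j j' : Fin r), 0 < α j → 0 < α j' → x ∈ (D j).support → x ∈ (D j').support → j = j') :
    LogNCD.IsNCD (fun j : Fin r => ((D j).comap π).radical) (π ≫ f) := by
  classical
  haveI := hR.1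
  intro y hy
  have hsupp : ∀ i, y ∈ ((D i).comap π).radical.support ↔ π y ∈ (D i).support := fun i => by
    rw [Scheme.IdealSheafData.support_radical, Scheme.IdealSheafData.support_comap]
    rfl
  obtain ⟨i₁, hi₁⟩ := hy
  obtain ⟨W', hxW', n, v, e, he, hv, heq, hnot⟩ := hD (π y) ⟨⟨i₁, (hsupp i₁).1 hi₁⟩⟩
  have key : ∃ (U : X.affineOpens) (hUW : U.1 ≤ W') (V : Y.affineOpens) (hV : V.1 ≤ π ⁻¹ᵁ U.1), y ∈ V.1 ∧
      ∃ χ : MvPolynomial (ULift.{u} (Fin n)) k →+* Γ(Y, V.1), χ.Etale ∧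
        (∀ c, χ (MvPolynomial.C c) = constHom (π ≫ f) V.1 c) ∧
        ∀ i : LogNCD.Through D (π y), ∃ (a : Γ(Y, V.1)) (m : ℕ), IsUnit a ∧ m ≠ 0 ∧
          (π.appLE U.1 V.1 hV).hom (LogNCD.sectOn W' hUW (v (ULift.up (e i)))) =
            a * χ (MvPolynomial.X (ULift.up (e i))) ^ m := by
    by_cases hex : ∃ j₀, 0 < α j₀ ∧ π y ∈ (D j₀).support
    · obtain ⟨j₀, hj₀, hxj₀⟩ := hex
      obtain ⟨U, hxU, hUW, hPi, hreg, -, hroot⟩ := local_chart f hL hN hNk D α hD hs R hR (fun j => 0 < α j)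
        (fun j hj => Nat.eq_zero_of_not_pos hj) W' (π y) hxW' (hdisj _)
      haveI := hreg
      obtain ⟨g, u, z, ε, t, d, hspan, hε, hgz, ht, hd, htd, hadj, hflat⟩ := hroot j₀ hj₀ hxj₀
      obtain ⟨ψ, hψ, hψC, hψX⟩ := exists_coord_hom f W' v hv U hUW
      let i₀ : ULift.{u} (Fin n) := ULift.up (e ⟨j₀, hxj₀⟩)
      haveI : Nonempty ↥(U.1 : Scheme.{u}) := ⟨⟨π y, hxU⟩⟩
      haveI : IsDomain Γ(X, U.1) := IsIntegral.component_integral U.1
      obtain ⟨w, hw⟩ : Associated g (ψ (MvPolynomial.X i₀)) := by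
        rw [← Ideal.span_singleton_eq_span_singleton, ← hspan, hψX]
        exact heq ⟨j₀, hxj₀⟩ U hUW
      letI := (π.app U.1).hom.toAlgebra
      haveI : Module.Finite Γ(X, U.1) Γ(Y, π ⁻¹ᵁ U.1) := π.finite_app U.1 U.2
      haveI := hflat
      have hgX : algebraMap Γ(X, U.1) Γ(Y, π ⁻¹ᵁ U.1) (ψ (MvPolynomial.X i₀)) =
          ((π.app U.1).hom w * ε) * z ^ (N / Nat.gcd N (α j₀)) := by
        show (π.app U.1).hom _ = _
        rw [← hw, map_mul, hgz]; ring
      have hm : N / Nat.gcd N (α j₀) ≠ 0 :=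
        (Nat.div_pos (Nat.gcd_le_left _ hN) (Nat.gcd_pos_of_pos_left _ hN)).ne'
      have hzq : z ∈ (hPi.primeIdealOf ⟨y, hxU⟩).asIdeal := by
        refine Ideal.IsPrime.mem_of_pow_mem inferInstance (N / Nat.gcd N (α j₀)) ?_
        refine (Ideal.unit_mul_mem_iff_mem _ hε).1 ?_
        rw [← hgz, mem_primeIdealOf_iff, ← Scheme.preimage_basicOpen]
        intro hyg
        rw [(D j₀).mem_support_iff_of_mem (U := U) hxU, Scheme.mem_zeroLocus_iff] at hxj₀
        exact hxj₀ g (hspan ▸ Ideal.mem_span_singleton_self g) hyg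
      obtain ⟨h, hhq, hEt⟩ := exists_root_chart ψ hψ i₀ z _ t d _ hm hgX ht hd u htd hadj
        (hPi.primeIdealOf ⟨y, hxU⟩).asIdeal hzq
      let V : Y.affineOpens := ⟨Y.basicOpen h, hPi.basicOpen h⟩
      have hV : V.1 ≤ π ⁻¹ᵁ U.1 := Y.basicOpen_le h
      refine ⟨U, hUW, V, hV, not_not.1 fun hn => hhq ((mem_primeIdealOf_iff hPi ⟨y, hxU⟩ h).2 hn),
        (Y.presheaf.map (homOfLE hV).op).hom.comp (rootMap ψ i₀ z), ?_, fun c => ?_, fun i => ?_⟩
      · letI := (rootMap ψ i₀ z).toAlgebra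
        haveI := hEt
        letI := (Y.presheaf.map (homOfLE hV).op).hom.toAlgebra
        haveI : IsLocalization.Away h Γ(Y, V.1) := hPi.isLocalization_basicOpen h
        letI : Algebra (MvPolynomial (ULift.{u} (Fin n)) k) Γ(Y, V.1) :=
          ((Y.presheaf.map (homOfLE hV).op).hom.comp (rootMap ψ i₀ z)).toAlgebra
        haveI : IsScalarTower (MvPolynomial (ULift.{u} (Fin n)) k) Γ(Y, π ⁻¹ᵁ U.1) Γ(Y, V.1) :=
          IsScalarTower.of_algebraMap_eq' rfl
        haveI : Algebra.Etale (MvPolynomial (ULift.{u} (Fin n)) k) Γ(Y, V.1) := Algebra.Etale.of_equiv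
          ((IsLocalization.algEquiv (Submonoid.powers h) (Localization.Away h) Γ(Y, V.1)).restrictScalars _)
        exact RingHom.etale_algebraMap.2 inferInstance
      · rw [RingHom.comp_apply, rootMap_C, hψC]
        exact (congrArg (Y.presheaf.map (homOfLE hV).op).hom (constHom_preimage π f U.1 c)).trans
          (constHom_res (π ≫ f) hV c)
      · show ∃ a m, _ ∧ _ ∧ (π.appLE U.1 V.1 hV).hom _ = _
        rw [← hψX]
        by_cases hi : ULift.up (e i) = i₀
        · refine ⟨(Y.presheaf.map (homOfLE hV).op).hom ((π.app U.1).hom w * ε), N / Nat.gcd N (α j₀),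
            (((w.isUnit.map _).mul hε)).map _, hm, ?_⟩
          rw [hi, RingHom.comp_apply, rootMap_X_self, ← map_pow, ← map_mul, ← hgX]
          rfl
        · refine ⟨1, 1, isUnit_one, one_ne_zero, ?_⟩
          rw [RingHom.comp_apply, rootMap_X ψ i₀ z hi, pow_one, one_mul]
          rfl
    · let Bad : Set X := ⋃ j ∈ {j : Fin r | 0 < α j}, ((D j).support : Set X)
      have hBad : IsClosed Bad := (Set.toFinite _).isClosed_biUnion fun j _ => (D j).support.isClosed
      let W1 : X.Opens := W' ⊓ ⟨Badᶜ, hBad.isOpen_compl⟩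
      have hx1 : π y ∈ W1 := ⟨hxW', fun h => by
        obtain ⟨j, hj, hxj⟩ := Set.mem_iUnion₂.1 h
        exact hex ⟨j, hj, hxj⟩⟩
      obtain ⟨U₀, hU₀, hxU, hle⟩ := exists_isAffineOpen_mem_and_subset hx1
      let U : X.affineOpens := ⟨U₀, hU₀⟩
      have hUW : U.1 ≤ W' := fun a ha => (hle ha).1
      have hPi : IsAffineOpen (π ⁻¹ᵁ U.1) := U.2.preimage π
      have hEt := etale_app_of_etale_morphismRestrict π U.2 hPi
        (etale_restrict f L hL N hN hNk D α s hs π R hR U.1 fun j hj =>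
          Set.disjoint_left.2 fun a ha haj => (hle ha).2 (Set.mem_iUnion₂.2 ⟨j, hj, haj⟩))
      obtain ⟨ψ, hψ, hψC, hψX⟩ := exists_coord_hom f W' v hv U hUW
      refine ⟨U, hUW, ⟨_, hPi⟩, le_rfl, hxU, (π.app U.1).hom.comp ψ,
        RingHom.Etale.stableUnderComposition _ _ hψ hEt, fun c => ?_, fun i => ⟨1, 1, isUnit_one, one_ne_zero, ?_⟩⟩
      · rw [RingHom.comp_apply, hψC]
        exact constHom_preimage π f U.1 c
      · show (π.appLE U.1 (π ⁻¹ᵁ U.1) le_rfl).hom _ = _
        rw [← Scheme.Hom.app_eq_appLE, RingHom.comp_apply, hψX, pow_one, one_mul]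
  obtain ⟨U, hUW, V, hV, hyV, χ, hχ, hχC, hval⟩ := key
  refine ⟨V.1, hyV, n, fun i => V.1.topIso.inv (χ (MvPolynomial.X i)),
    fun i => e ⟨i.1, (hsupp i.1).1 i.2⟩,
    fun a b hab => Subtype.ext (by have h := he hab; exact congrArg (fun z => z.1) h),
    etale_homOfVector (π ≫ f) V χ hχ hχC, fun i V'' hle => ?_, fun i hi V'' hle => ?_⟩
  · rw [sectOn_topIso]
    refine ideal_eq_span_of_local _ V'' V.1 hle _ fun a ha => ⟨V, le_rfl, hle ha, ?_⟩
    obtain ⟨a', m, ha', hm, hval⟩ := hval ⟨i.1, (hsupp i.1).1 i.2⟩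
    rw [radical_ideal_eq, IdealStalkLib.comap_ideal (D i.1) π U.2 V.2 hV,
      heq ⟨i.1, (hsupp i.1).1 i.2⟩ U hUW, Ideal.map_span, Set.image_singleton, hval,
      Ideal.span_singleton_mul_left_unit ha', ← Ideal.span_singleton_pow, Ideal.radical_pow _ hm,
      (isRadical_span_coord χ hχ _).radical]
    rw [show (Y.presheaf.map (homOfLE (le_refl V.1)).op).hom _ = _ from
      ConcreteCategory.congr_hom (Y.presheaf.map_id _) _]
    rfl
  · have h := ideal_eq_span_of_local ((D i).comap π).radical V'' V.1 hle 1 fun a ha => ⟨V, le_rfl, hle ha, by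
      rw [radical_ideal_eq, IdealStalkLib.comap_ideal (D i) π U.2 V.2 hV,
        hnot i (fun hx => hi ((hsupp i).2 hx)) U hUW, Ideal.map_top, Ideal.radical_top, map_one,
        Ideal.span_singleton_one]⟩
    rw [map_one, Ideal.span_singleton_one] at h
    exact h

end Groth.Agent.CycEtaleLib
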