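import Groth.Agent.CycEtaleLib.Geometry
import Groth.Agent.FinBirLib.Smooth

/-!
# Smoothness and multiplicities of the cyclic cover
-/

set_option autoImplicit false
set_option backward.isDefEq.respectTransparency false
set_option backward.isDefEq.respectTransparency.types false
set_option linter.style.haveILetI false
set_option maxHeartbeats 2000000
universe u

open CategoryTheory AlgebraicGeometry Opposite TopologicalSpace CycCov

noncomputable section

namespace Groth.Agent.CycEtaleLib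

variable {X Y : Scheme.{u}} {k : Type u} [Field k] (f : X ⟶ Spec (CommRingCat.of k)) [Smooth f] [IsIntegral X]
  {L : X.Modules} (hL : PicF.IsInvertible L) {N : ℕ} (hN : 0 < N) (hNk : (N : k) ≠ 0)
  {r : ℕ} (D : Fin r → X.IdealSheafData) (α : Fin r → ℕ) (hD : LogNCD.IsNCD D f)
  {s : Coh.structureModule X ⟶ CohB1.tensorPow L N}
  (hs : CycCov.IsZeroDiv (CohB1.tensorPow L N) s (CycCov.divIdeal D α))
  {π : Y ⟶ X} (R : CycCov.Root L N s π) (hR : CycCov.IsCover R)

theorem comap_ideal_preimage (I : X.IdealSheafData) {U : X.Opens} (hU : IsAffineOpen U) (hV : IsAffineOpen (π ⁻¹ᵁ U)) :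
    (I.comap π).ideal ⟨_, hV⟩ = (I.ideal ⟨U, hU⟩).map (π.app U).hom := by
  rw [IdealStalkLib.comap_ideal I π hU hV le_rfl, ← Scheme.Hom.app_eq_appLE]

theorem radical_ideal_eq (I : Y.IdealSheafData) (V : Y.affineOpens) : I.radical.ideal V = (I.ideal V).radical := rfl

include hL hN hNk hD hs hR

theorem smooth_cover [IsAlgClosed k] (W : X.Opens)
    (hW : ∀ x ∈ W, ∀ j j' : Fin r, 0 < α j → 0 < α j' → x ∈ (D j).support → x ∈ (D j').support → j = j') :
    Smooth ((π ⁻¹ᵁ W).ι ≫ π ≫ f) := by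
  haveI := hR.1
  refine FinBirLib.smooth_of_regular_algClosed _ fun y _ => ?_
  obtain ⟨U, hxU, -, hV, hreg, -⟩ := local_chart f hL hN hNk D α hD hs R hR (fun j => 0 < α j)
    (fun j hj => Nat.eq_zero_of_not_pos hj) W (π y.1) y.2 (hW _ y.2)
  haveI := hreg
  haveI := isRegularLocalRing_stalk hV ⟨y.1, hxU⟩
  exact IsRegularLocalRing.of_ringEquiv ((π ⁻¹ᵁ W).stalkIso y).commRingCatIsoToRingEquiv.symm

theorem comap_component (W : X.Opens)
    (hW : ∀ x ∈ W, ∀ j j' : Fin r, x ∈ (D j).support → x ∈ (D j').support → j = j')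
    (j : Fin r) (V : Y.affineOpens) (hV : V.1 ≤ π ⁻¹ᵁ W) :
    ((D j).comap π).ideal V = (((D j).comap π).radical ^ (N / Nat.gcd N (α j))).ideal V := by
  refine ideal_eq_of_local _ _ V fun y hy => ?_
  obtain ⟨U, hxU, -, hU, -, heq, -⟩ := local_chart f hL hN hNk D α hD hs R hR (fun _ => True)
    (fun _ h => absurd trivial h) W (π y) (hV hy) fun i i' _ _ => hW _ (hV hy) i i'
  refine ⟨⟨_, hU⟩, hxU, ?_⟩
  rw [Scheme.IdealSheafData.ideal_pow, Pi.pow_apply, radical_ideal_eq, comap_ideal_preimage (D j) U.2 hU]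
  exact heq j trivial

theorem comap_divIdeal (W : X.Opens)
    (hW : ∀ x ∈ W, ∀ j j' : Fin r, x ∈ (D j).support → x ∈ (D j').support → j = j')
    (V : Y.affineOpens) (hV : V.1 ≤ π ⁻¹ᵁ W) :
    ((CycCov.divIdeal D α).comap π).ideal V =
      (∏ j : Fin r, ((D j).comap π).radical ^ (N * α j / Nat.gcd N (α j))).ideal V := by
  refine ideal_eq_of_local _ _ V fun y hy => ?_
  obtain ⟨U, hxU, -, hU, -, heq, -⟩ := local_chart f hL hN hNk D α hD hs R hR (fun _ => True)
    (fun _ h => absurd trivial h) W (π y) (hV hy) fun i i' _ _ => hW _ (hV hy) i i'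
  refine ⟨⟨_, hU⟩, hxU, ?_⟩
  rw [comap_ideal_preimage _ U.2 hU, CycCov.divIdeal, ideal_prod_eq, ideal_prod_eq,
    ← Ideal.mapHom_apply, map_prod]
  refine Finset.prod_congr rfl fun j _ => ?_
  rw [radical_ideal_eq, comap_ideal_preimage (D j) U.2 hU, map_pow, Ideal.mapHom_apply]
  conv_lhs => rw [heq j trivial, ← pow_mul]
  congr 1
  exact Nat.div_mul_right_comm (Nat.gcd_dvd_left _ _) _

end Groth.Agent.CycEtaleLib
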